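import Groth.Agent.Fano.K275.ProdQc

/-!
# The base of the universal family of a linear chart is locally of finite type

* `locallyOfFiniteType_toU`, `locallyOfFiniteType_univ`;
* `hasProdAt_self`: the product of the universal family with itself.
-/

set_option autoImplicit false
set_option backward.isDefEq.respectTransparency false
set_option backward.isDefEq.respectTransparency.types false

universe u

open CategoryTheory CategoryTheory.Limits AlgebraicGeometry TopologicalSpace

namespace K275.UnivLft

open Groth.Agent K505.KonDef K275.DatRep K275.ProdQc K393.RelDimP K393.ObjDim2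

variable {k : Type u} [Field k] {r m n d e : ℕ} {G : LefPen.Form n k d} {c : CrvChart k (r + m)} (ℓ : LinChart c G e)

theorem locallyOfFiniteType_toU : LocallyOfFiniteType ℓ.toU := by
  have h : Algebra.FiniteType c.R ℓ.RV := inferInstance
  have h1 : LocallyOfFiniteType (Spec.map (CommRingCat.ofHom (algebraMap c.R ℓ.RV))) := by
    rw [HasRingHomProperty.Spec_iff (P := @LocallyOfFiniteType)]
    exact RingHom.finiteType_algebraMap.mpr h
  have := c.isAffine
  exact (inferInstance : LocallyOfFiniteType (Spec.map (CommRingCat.ofHom (algebraMap c.R ℓ.RV)) ≫ (c.U.left.isoSpec).inv))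

variable {ℓ}

/-- The base of the universal family is locally of finite type. -/
theorem locallyOfFiniteType_univ (Un : Univ ℓ) : LocallyOfFiniteType Un.A.obj.base.hom := by
  have h1 := Un.isOpenImmersion
  have h2 := locallyOfFiniteType_toU ℓ
  have h3 : LocallyOfFiniteType c.U.hom := c.locallyOfFiniteType
  have h4 : Un.D.h.base.left ≫ c.U.hom = Un.A.obj.base.hom := Over.w Un.D.h.base
  rw [← h4, Un.base]
  infer_instance

/-- The product of the universal family with itself is smooth and quasi-compact. -/
theorem hasProdAt_self (hc : QcProd c) (Un : Univ ℓ) : HasProdAt (SmRel (m + 1) ⊓ @QuasiCompact) Un.A Un.A :=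
  have := locallyOfFiniteType_univ Un
  hasProdAt hc Un Un.A

end K275.UnivLft
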