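import Groth.Agent.Fano.K275.RowTors
import Groth.Agent.Fano.K655.MapPre

/-!
# The data of a family of maps are represented by a smooth scheme

For a linear chart `ℓ` over a chart `c` of the stack of prestable curves with `r + m` sections and a family `Y` of maps from
prestable curves with `r` sections to the hypersurface: the data for `ℓ` (`K505.KonDef.Datum`) on the families over `Y` are
represented by a base change of `Y`, smooth of relative dimension `m + 1`.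

* `exists_datRep_core`: given the scheme representing the sections and the product with the chart;
* `exists_datRep`, `exists_datRep_qc`.
-/

set_option autoImplicit false
set_option backward.isDefEq.respectTransparency false
set_option backward.isDefEq.respectTransparency.types false

universe u

open CategoryTheory CategoryTheory.Limits AlgebraicGeometry TopologicalSpace

namespace K275.DatRep

open Groth.Agent K390.PnSec K188.LineDef K745.ConDef K505.KonDef K11.UnivKit K275.RowTors K275.SecRep K655.MapPre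

/-! ### families with more sections -/

section Add

variable {S : Scheme.{u}} {r m : ℕ}

/-- A morphism from a family with more sections. -/
def addHom {A : CurvSt.PtFamObj S r} {y : Fin m → (A.base.left ⟶ A.C)} {hy : ∀ i, y i ≫ A.f = 𝟙 A.base.left}
    {B : CurvSt.PtFamObj S (r + m)} (b : A.base ⟶ B.base) (t : A.C ⟶ B.C) (hP : IsPullback t A.f B.f b.left)
    (h1 : ∀ i, A.sect i ≫ t = b.left ≫ B.sect (Fin.castAdd m i))
    (h2 : ∀ i, y i ≫ t = b.left ≫ B.sect (Fin.natAdd r i)) : addM A y hy ⟶ B where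
  base := b
  top := t
  cart := hP
  w_sect i := by
    refine Fin.addCases (fun i => ?_) (fun i => ?_) i
    · rw [addM_sect_castAdd]
      exact h1 i
    · rw [addM_sect_natAdd]
      exact h2 i

theorem addHom_castAdd {A : CurvSt.PtFamObj S r} {y : Fin m → (A.base.left ⟶ A.C)}
    {hy : ∀ i, y i ≫ A.f = 𝟙 A.base.left} {B : CurvSt.PtFamObj S (r + m)} (φ : B ⟶ addM A y hy) (i : Fin r) :
    B.sect (Fin.castAdd m i) ≫ φ.top = φ.base.left ≫ A.sect i := by
  have h := φ.w_sect (Fin.castAdd m i)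
  rw [addM_sect_castAdd] at h
  exact h

theorem addHom_natAdd {A : CurvSt.PtFamObj S r} {y : Fin m → (A.base.left ⟶ A.C)}
    {hy : ∀ i, y i ≫ A.f = 𝟙 A.base.left} {B : CurvSt.PtFamObj S (r + m)} (φ : B ⟶ addM A y hy) (i : Fin m) :
    B.sect (Fin.natAdd r i) ≫ φ.top = φ.base.left ≫ y i := by
  have h := φ.w_sect (Fin.natAdd r i)
  rw [addM_sect_natAdd] at h
  exact h

end Add

variable {k : Type u} [Field k] {r m n d e : ℕ} {G : LefPen.Form n k d} {c : CrvChart k (r + m)} (ℓ : LinChart c G e)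

/-- The sections of a datum, over `Y`, give a prestable family. -/
theorem pre_of_datum {Y Z' : Fam G r} (b' : Z' ⟶ Y) (D' : Datum ℓ Z') :
    Pre Y.f Y.sect Y.sect_f b'.hom.base.left (fun i => D'.y i ≫ b'.hom.top)
      (fun i => by rw [Category.assoc, b'.hom.cart.w, ← Category.assoc, D'.hy, Category.id_comp]) 0 := by
  let κ : pullback Y.f b'.hom.base.left ⟶ Z'.C := b'.hom.cart.isoPullback.inv
  have hκ1 : κ ≫ b'.hom.top = pullback.fst _ _ := b'.hom.cart.isoPullback_inv_fst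
  have hκ2 : κ ≫ Z'.f = pullback.snd _ _ := b'.hom.cart.isoPullback_inv_snd
  have sq : IsPullback κ (pullback.snd Y.f b'.hom.base.left) Z'.f (𝟙 _) :=
    IsPullback.of_horiz_isIso ⟨by rw [hκ2, Category.comp_id]⟩
  have sq' : IsPullback (κ ≫ tp D') (pullback.snd Y.f b'.hom.base.left) c.f (𝟙 _ ≫ (bs D').left) :=
    sq.paste_horiz (cart D')
  rw [Category.id_comp] at sq'
  have hlift : ∀ (s : Z'.base.left ⟶ pullback Y.f b'.hom.base.left) (s' : Z'.base.left ⟶ Z'.C),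
      s ≫ pullback.fst _ _ = s' ≫ b'.hom.top → s ≫ pullback.snd _ _ = 𝟙 _ → s' ≫ Z'.f = 𝟙 _ → s ≫ κ = s' := by
    intro s s' h1 h2 h3
    refine b'.hom.cart.hom_ext ?_ ?_
    · rw [Category.assoc, hκ1, h1]
    · rw [Category.assoc, hκ2, h2, h3]
  refine isPrestablePtdFam_bc (f := c.f) (σ := c.B.sect) (hσ := c.B.sect_f) c.isPre sq' fun j => ?_
  refine Fin.addCases (fun i => ?_) (fun i => ?_) j
  · rw [allSec_castAdd, ← sect_tp, ← Category.assoc]
    congr 1
    refine hlift _ _ ?_ (pullback.lift_snd _ _ _) (Z'.sect_f i)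
    rw [b'.hom.w_sect]
    exact pullback.lift_fst _ _ _
  · rw [allSec_natAdd, ← y_tp, ← Category.assoc]
    congr 1
    exact hlift _ _ (pullback.lift_fst _ _ _) (pullback.lift_snd _ _ _) (D'.hy i)

/-- The family over the scheme representing the sections. -/
noncomputable def famP (Y : Fam G r) {W₁ : Scheme.{u}} (p₁ : W₁ ⟶ Y.base.left) (y₁ : Fin m → (W₁ ⟶ Y.C))
    (hy₁ : ∀ i, y₁ i ≫ Y.f = p₁) : CurvSt.PtFamObj (Spec (CommRingCat.of k)) (r + m) :=
  addM (bc Y (Over.homMk p₁ : Over.mk (p₁ ≫ Y.base.hom) ⟶ Y.base)).toPtFamObj (newSec Y.f p₁ y₁ hy₁)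
    (fun _ => pullback.lift_snd _ _ _)

/-- The data are represented by a base change of `Y`, given the scheme representing the sections and the product of the chart
with the family over it. -/
theorem exists_datRep_core (Y : Fam G r) {W₁ : Scheme.{u}} {p₁ : W₁ ⟶ Y.base.left} {y₁ : Fin m → (W₁ ⟶ Y.C)}
    {hy₁ : ∀ i, y₁ i ≫ Y.f = p₁}
    (hu₁ : ∀ {V : Scheme.{u}} (v : V ⟶ Y.base.left) (s : Fin m → (V ⟶ Y.C)) (hs : ∀ i, s i ≫ Y.f = v),
      Pre Y.f Y.sect Y.sect_f v s hs 0 → ∃! w : V ⟶ W₁, w ≫ p₁ = v ∧ ∀ i, w ≫ y₁ i = s i)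
    {Z₂ : CurvSt.PtFamObj (Spec (CommRingCat.of k)) (r + m)} (α₂ : Z₂ ⟶ c.B) (β₂ : Z₂ ⟶ famP Y p₁ y₁ hy₁)
    (hZ₂ : ∀ (Z' : CurvSt.PtFamObj (Spec (CommRingCat.of k)) (r + m)) (a : Z' ⟶ c.B) (b : Z' ⟶ famP Y p₁ y₁ hy₁),
      ∃! z : Z' ⟶ Z₂, z ≫ α₂ = a ∧ z ≫ β₂ = b) :
    ∃ (W : Over (Spec (CommRingCat.of k))) (b : W ⟶ Y.base) (D : Datum ℓ (bc Y b)),
      (∃ π : W.left ⟶ Z₂.base.left, SmoothOfRelativeDimension 1 π ∧
        (IsLocallyNoetherian Z₂.base.left → QuasiCompact π) ∧ b.left = π ≫ β₂.base.left ≫ p₁) ∧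
      ∀ (Z' : Fam G r) (b' : Z' ⟶ Y) (D' : Datum ℓ Z'), ∃! z : Z' ⟶ bc Y b, z ≫ bcHom Y b = b' ∧ IsPull D' D z := by
  let B₁ : Over (Spec (CommRingCat.of k)) := Over.mk (p₁ ≫ Y.base.hom)
  let b₁ : B₁ ⟶ Y.base := Over.homMk p₁
  let P₁ : CurvSt.PtFamObj (Spec (CommRingCat.of k)) (r + m) := famP Y p₁ y₁ hy₁
  let top₁ : P₁.C ⟶ Y.C := (bcHom Y b₁).hom.top
  have sq₁ : IsPullback top₁ P₁.f Y.f b₁.left := (bcHom Y b₁).hom.cart
  let μ₂ : Z₂.C ⟶ CohB1.ProjSpace n k := (β₂.top ≫ top₁) ≫ Y.map ≫ (LefPen.hypIdeal G).subschemeι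
  have sq₂ : IsPullback (β₂.top ≫ top₁) Z₂.f Y.f (β₂.base.left ≫ b₁.left) := β₂.cart.paste_horiz sq₁
  -- the matrices
  obtain ⟨W₃, π₃, Φ, hsm₃, hqc₃, hΦ, hu₃⟩ := exists_rows ℓ α₂.cart μ₂
  let W : Over (Spec (CommRingCat.of k)) := Over.mk (π₃ ≫ Z₂.base.hom)
  let π : W ⟶ Z₂.base := Over.homMk π₃
  let b : W ⟶ Y.base := π ≫ β₂.base ≫ b₁
  let Z : Fam G r := bc Y b
  let β : Z ⟶ Y := bcHom Y b
  have sqZ : IsPullback β.hom.top Z.f Y.f (π.left ≫ β₂.base.left ≫ b₁.left) := β.hom.cart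
  let u : Z.C ⟶ Z₂.C := sq₂.lift β.hom.top (Z.f ≫ π.left) (sqZ.w.trans (Category.assoc _ _ _).symm)
  have hu1 : u ≫ β₂.top ≫ top₁ = β.hom.top := sq₂.lift_fst _ _ _
  have hu2 : u ≫ Z₂.f = Z.f ≫ π.left := sq₂.lift_snd _ _ _
  have squ : IsPullback u Z.f Z₂.f π.left := by
    refine IsPullback.of_right (h₁₂ := β₂.top ≫ top₁) (h₂₂ := β₂.base.left ≫ b₁.left) (v₁₃ := Y.f) ?_ hu2 sq₂
    rw [hu1]
    exact sqZ
  have hmap : Z.map ≫ (LefPen.hypIdeal G).subschemeι = u ≫ μ₂ := by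
    have h1 : β.hom.top ≫ Y.map = Z.map := β.w_map
    rw [← h1, ← hu1]
    simp only [μ₂, Category.assoc]
  have hgv : Gv ℓ α₂.top μ₂ u Z.f Φ := hΦ hu2
  -- the sections of the new family
  have hβs : ∀ i, Z.sect i ≫ β.hom.top = (π.left ≫ β₂.base.left ≫ b₁.left) ≫ Y.sect i := fun i => β.hom.w_sect i
  have hnew : ∀ i, newSec Y.f p₁ y₁ hy₁ i ≫ top₁ = y₁ i := fun i => pullback.lift_fst _ _ _
  have hnewf : ∀ i, newSec Y.f p₁ y₁ hy₁ i ≫ P₁.f = 𝟙 P₁.base.left := fun i => pullback.lift_snd _ _ _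
  have hc : ∀ i, Z₂.sect (Fin.castAdd m i) ≫ β₂.top = β₂.base.left ≫ (bc Y b₁).sect i := addHom_castAdd β₂
  have hn : ∀ i, Z₂.sect (Fin.natAdd r i) ≫ β₂.top = β₂.base.left ≫ newSec Y.f p₁ y₁ hy₁ i := addHom_natAdd β₂
  have hb₁s : ∀ i, (bc Y b₁).sect i ≫ top₁ = b₁.left ≫ Y.sect i := fun i => (bcHom Y b₁).hom.w_sect i
  have hsecZ : ∀ i, Z.sect i ≫ u = π.left ≫ Z₂.sect (Fin.castAdd m i) := by
    intro i
    refine sq₂.hom_ext ?_ ?_
    · rw [Category.assoc, hu1, hβs, Category.assoc, Category.assoc, Category.assoc, reassoc_of% (hc i), hb₁s]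
    · rw [Category.assoc, hu2, ← Category.assoc, Z.sect_f, Category.id_comp, Category.assoc, Z₂.sect_f]
      exact (Category.comp_id _).symm
  let yZ : Fin m → (Z.base.left ⟶ Z.C) := fun i => squ.lift (π.left ≫ Z₂.sect (Fin.natAdd r i)) (𝟙 _) (by
    rw [Category.assoc, Z₂.sect_f, Category.comp_id]
    exact (Category.id_comp _).symm)
  have hyu : ∀ i, yZ i ≫ u = π.left ≫ Z₂.sect (Fin.natAdd r i) := fun i => squ.lift_fst _ _ _
  have hyZ : ∀ i, yZ i ≫ Z.f = 𝟙 _ := fun i => squ.lift_snd _ _ _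
  let D : Datum ℓ Z := mkDatum Z yZ hyZ (u ≫ α₂.top) (π ≫ α₂.base) (squ.paste_horiz α₂.cart)
    (fun i => by rw [← Category.assoc, hsecZ, Category.assoc, α₂.w_sect, Over.comp_left, Category.assoc])
    (fun i => by rw [← Category.assoc, hyu, Category.assoc, α₂.w_sect, Over.comp_left, Category.assoc]) Φ (by
      rw [hmap]
      exact hgv)
  refine ⟨W, b, D, ?_, ?_⟩
  · exact ⟨π₃, hsm₃, hqc₃, rfl⟩
  · intro Z' b' D'
    have hs : ∀ i, (D'.y i ≫ b'.hom.top) ≫ Y.f = b'.hom.base.left := fun i => by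
      rw [Category.assoc, b'.hom.cart.w, ← Category.assoc, D'.hy, Category.id_comp]
    obtain ⟨w₁, ⟨hw₁, hw₁y⟩, hw₁u⟩ := hu₁ b'.hom.base.left (fun i => D'.y i ≫ b'.hom.top) hs (pre_of_datum ℓ b' D')
    let w₁' : Z'.base ⟶ B₁ := Over.homMk w₁ (by
      change w₁ ≫ p₁ ≫ Y.base.hom = _
      rw [← Category.assoc, hw₁]
      exact Over.w b'.hom.base)
    have hw₁' : w₁' ≫ b₁ = b'.hom.base := Over.OverMorphism.ext hw₁
    obtain ⟨χ₁, ⟨hχ₁b, hχ₁⟩, -⟩ := existsUnique_fac (bcHom Y b₁) w₁' b' hw₁'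
    have hχ₁t : χ₁.hom.top ≫ top₁ = b'.hom.top := congrArg (fun t : Z' ⟶ Y => t.hom.top) hχ₁
    have hχ₁f : χ₁.hom.top ≫ P₁.f = Z'.f ≫ χ₁.hom.base.left := χ₁.hom.cart.w
    have hχ₁l : χ₁.hom.base.left = w₁ := congrArg CommaMorphism.left hχ₁b
    let θ₁ : addM Z'.toPtFamObj D'.y D'.hy ⟶ P₁ := addHom χ₁.hom.base χ₁.hom.top χ₁.hom.cart
      (fun i => (χ₁.hom.w_sect i).trans (by
        congr 1
        exact (addM_sect_castAdd _ _ _ i).symm))
      (fun i => by
        have h1 : P₁.sect (Fin.natAdd r i) = newSec Y.f p₁ y₁ hy₁ i := addM_sect_natAdd _ _ _ i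
        rw [h1]
        refine sq₁.hom_ext ?_ ?_
        · rw [Category.assoc, hχ₁t, Category.assoc, hnew, hχ₁l, hw₁y]
        · rw [Category.assoc, hχ₁f, ← Category.assoc, D'.hy, Category.id_comp, Category.assoc, hnewf]
          exact (Category.comp_id _).symm)
    obtain ⟨z₂, ⟨hz₂α, hz₂β⟩, hz₂u⟩ := hZ₂ _ D'.h θ₁
    have hz₂t : z₂.top ≫ β₂.top = χ₁.hom.top := congrArg (fun t : addM Z'.toPtFamObj D'.y D'.hy ⟶ P₁ => t.top) hz₂β
    have hz₂b : z₂.base ≫ β₂.base = χ₁.hom.base :=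
      congrArg (fun t : addM Z'.toPtFamObj D'.y D'.hy ⟶ P₁ => t.base) hz₂β
    have htp : tp D' = z₂.top ≫ α₂.top :=
      (congrArg (fun t : addM Z'.toPtFamObj D'.y D'.hy ⟶ c.B => t.top) hz₂α).symm
    have hbs : bs D' = z₂.base ≫ α₂.base :=
      (congrArg (fun t : addM Z'.toPtFamObj D'.y D'.hy ⟶ c.B => t.base) hz₂α).symm
    have hz₂f : z₂.top ≫ Z₂.f = Z'.f ≫ z₂.base.left := z₂.cart.w
    have hz₂Y : z₂.top ≫ β₂.top ≫ top₁ = b'.hom.top := by rw [← Category.assoc, hz₂t, hχ₁t]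
    have hgv' : Gv ℓ α₂.top μ₂ z₂.top Z'.f D'.φ := by
      have h1 := givenBy D'
      have h2 : Z'.map ≫ (LefPen.hypIdeal G).subschemeι = z₂.top ≫ μ₂ := by
        rw [← b'.w_map, ← hz₂Y]
        simp only [μ₂, Category.assoc]
      rw [h2, htp] at h1
      exact h1
    have hcart₂ : IsPullback z₂.top Z'.f Z₂.f z₂.base.left := z₂.cart
    obtain ⟨h, ⟨hh1, hh2⟩, hhu⟩ := hu₃ hcart₂ hgv'
    let h' : Z'.base ⟶ W := Over.homMk h (by
      change h ≫ π₃ ≫ Z₂.base.hom = _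
      rw [← Category.assoc, hh1]
      exact Over.w z₂.base)
    have hh' : h' ≫ π = z₂.base := Over.OverMorphism.ext hh1
    have hh'b : h' ≫ b = b'.hom.base := by
      change h' ≫ π ≫ β₂.base ≫ b₁ = _
      rw [← Category.assoc, hh', ← Category.assoc, hz₂b, hχ₁b, hw₁']
    obtain ⟨χ, ⟨hχ1, hχ2⟩, hχu⟩ := existsUnique_fac (bcHom Y b) h' b' hh'b
    have hzβ : ∀ z : Z' ⟶ Z, z ≫ β = b' → z.hom.top ≫ β.hom.top = b'.hom.top := fun z hz =>
      congrArg (fun t : Z' ⟶ Y => t.hom.top) hz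
    have hzf : ∀ z : Z' ⟶ Z, z.hom.top ≫ Z.f = Z'.f ≫ z.hom.base.left := fun z => z.hom.cart.w
    have htop : ∀ z : Z' ⟶ Z, z ≫ β = b' → z.hom.base ≫ π = z₂.base → z.hom.top ≫ u = z₂.top := by
      intro z hz hzb
      have hzbl : z.hom.base.left ≫ π.left = z₂.base.left := congrArg CommaMorphism.left hzb
      refine sq₂.hom_ext ?_ ?_
      · rw [Category.assoc, hu1, hzβ z hz, hz₂Y]
      · rw [Category.assoc, hu2, ← Category.assoc, hzf, Category.assoc, hzbl, hz₂f]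
    have hns : ∀ i, D'.y i ≫ z₂.top = z₂.base.left ≫ Z₂.sect (Fin.natAdd r i) := fun i => by
      have h1 := z₂.w_sect (Fin.natAdd r i)
      rw [addM_sect_natAdd] at h1
      exact h1
    have hχb : χ.hom.base ≫ π = z₂.base := by rw [hχ1, hh']
    have hχbl : χ.hom.base.left ≫ π.left = z₂.base.left := congrArg CommaMorphism.left hχb
    have hχt := htop χ hχ2 hχb
    refine ⟨χ, ⟨hχ2, IsPull.mk' (fun i => ?_) ?_ ?_ fun l j => ?_⟩, ?_⟩
    · change D'.y i ≫ χ.hom.top = χ.hom.base.left ≫ yZ i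
      refine squ.hom_ext ?_ ?_
      · rw [Category.assoc, hχt, hns, Category.assoc, hyu, ← Category.assoc, hχbl]
      · rw [Category.assoc, hzf, ← Category.assoc, D'.hy, Category.id_comp, Category.assoc, hyZ]
        exact (Category.comp_id _).symm
    · change tp D' = χ.hom.top ≫ u ≫ α₂.top
      rw [htp, ← Category.assoc, hχt]
    · change bs D' = χ.hom.base ≫ π ≫ α₂.base
      rw [hbs, ← Category.assoc, hχb]
    · have h1 : χ.hom.base.left = h := congrArg CommaMorphism.left hχ1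
      rw [h1]
      exact (hh2 l j).symm
    · rintro z ⟨hz, hpull⟩
      have hzt := hzβ z hz
      have hzy : ∀ i, D'.y i ≫ z.hom.top = z.hom.base.left ≫ yZ i := hpull.y
      have hzbase : z.hom.base ≫ b = b'.hom.base := congrArg (fun t : Z' ⟶ Y => t.hom.base) hz
      have hzbl : z.hom.base.left ≫ π.left ≫ β₂.base.left ≫ p₁ = b'.hom.base.left := congrArg CommaMorphism.left hzbase
      have hcz : IsPullback (z.hom.top ≫ u) Z'.f Z₂.f (z.hom.base ≫ π).left := z.hom.cart.paste_horiz squ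
      have hn' : ∀ i, D'.y i ≫ z.hom.top ≫ u = (z.hom.base ≫ π).left ≫ Z₂.sect (Fin.natAdd r i) := fun i => by
        rw [← Category.assoc, hzy, Category.assoc, hyu, Over.comp_left, Category.assoc]
      let ζ : addM Z'.toPtFamObj D'.y D'.hy ⟶ Z₂ := addHom (z.hom.base ≫ π) (z.hom.top ≫ u) hcz
        (fun i => by
          rw [← Category.assoc]
          have h1 : Z'.sect i ≫ z.hom.top = z.hom.base.left ≫ Z.sect i := z.hom.w_sect i
          rw [h1, Category.assoc, hsecZ, Over.comp_left, Category.assoc]) hn'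
      have hζα : ζ ≫ α₂ = D'.h := by
        refine CurvSt.PtFamObj.hom_ext ?_ ?_
        · change (z.hom.base ≫ π) ≫ α₂.base = bs D'
          have h1 : bs D' = z.hom.base ≫ π ≫ α₂.base := hpull.base
          rw [h1, Category.assoc]
        · change (z.hom.top ≫ u) ≫ α₂.top = tp D'
          have h1 : tp D' = z.hom.top ≫ u ≫ α₂.top := hpull.top
          rw [h1, Category.assoc]
      have hw : (z.hom.base.left ≫ π.left) ≫ β₂.base.left = w₁ := by
        refine hw₁u _ ⟨?_, fun i => ?_⟩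
        · change ((z.hom.base.left ≫ π.left) ≫ β₂.base.left) ≫ p₁ = _
          rw [Category.assoc, Category.assoc]
          exact hzbl
        · change ((z.hom.base.left ≫ π.left) ≫ β₂.base.left) ≫ y₁ i = D'.y i ≫ b'.hom.top
          have h1 := congrArg (fun t => t ≫ β₂.top ≫ top₁) (hn' i)
          simp only [Category.assoc, Over.comp_left] at h1
          rw [hu1, hzt, reassoc_of% (hn i), hnew] at h1
          rw [h1, Category.assoc, Category.assoc]
      have hζβ : ζ ≫ β₂ = θ₁ := by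
        have hb : (z.hom.base ≫ π) ≫ β₂.base = χ₁.hom.base := by
          refine Over.OverMorphism.ext ?_
          rw [hχ₁l]
          exact hw
        refine CurvSt.PtFamObj.hom_ext hb ?_
        change (z.hom.top ≫ u) ≫ β₂.top = χ₁.hom.top
        refine sq₁.hom_ext ?_ ?_
        · rw [Category.assoc, Category.assoc, hu1, hzt, hχ₁t]
        · have h1 : β₂.top ≫ P₁.f = Z₂.f ≫ β₂.base.left := β₂.cart.w
          rw [hχ₁f, Category.assoc, h1, ← Category.assoc, hcz.w, Category.assoc]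
          congr 1
          rw [← hb]
          rfl
      have hζ : ζ = z₂ := hz₂u ζ ⟨hζα, hζβ⟩
      have hzb : z.hom.base ≫ π = z₂.base := congrArg (fun t : addM Z'.toPtFamObj D'.y D'.hy ⟶ Z₂ => t.base) hζ
      have hzh : z.hom.base.left = h := hhu _ ⟨congrArg CommaMorphism.left hzb, fun l j => (hpull.φ l j).symm⟩
      exact hχu z ⟨Over.OverMorphism.ext hzh, hz⟩

/-- **The data are represented by a smooth base change.** -/
theorem exists_datRep (Y : Fam G r) (hpre : CurvSt.IsPrestablePtdFam Y.f Y.sect Y.sect_f 0) :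
    ∃ (W : Over (Spec (CommRingCat.of k))) (b : W ⟶ Y.base) (D : Datum ℓ (bc Y b)),
      SmoothOfRelativeDimension (m + 1) b.left ∧
      ∀ (Z' : Fam G r) (b' : Z' ⟶ Y) (D' : Datum ℓ Z'), ∃! z : Z' ⟶ bc Y b, z ≫ bcHom Y b = b' ∧ IsPull D' D z := by
  obtain ⟨W₁, p₁, y₁, hy₁, hsm₁, hpre₁, hu₁⟩ := exists_secs Y.f Y.sect Y.sect_f hpre m
  have hP₁ : IsPre (famP Y p₁ y₁ hy₁) := hpre₁
  obtain ⟨Z₂, α₂, β₂, hZ₂, het₂⟩ := c.prod _ hP₁
  obtain ⟨W, b, D, ⟨π, hπ, -, hb⟩, hu⟩ := exists_datRep_core ℓ Y hu₁ α₂ β₂ hZ₂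
  refine ⟨W, b, D, ?_, hu⟩
  have h0 : SmoothOfRelativeDimension 0 β₂.base.left := inferInstance
  have h1 : SmoothOfRelativeDimension (1 + (0 + m)) (π ≫ β₂.base.left ≫ p₁) := inferInstance
  rw [hb]
  rwa [zero_add, add_comm] at h1

/-- The products of the chart with prestable families over schemes locally of finite type are quasi-compact. -/
def QcProd (c : CrvChart k (r + m)) : Prop :=
  ∀ Y : CurvSt.PtFamObj (Spec (CommRingCat.of k)) (r + m), IsPre Y → LocallyOfFiniteType Y.base.hom →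
    ∃ (Z : CurvSt.PtFamObj (Spec (CommRingCat.of k)) (r + m)) (α : Z ⟶ c.B) (β : Z ⟶ Y),
      (∀ (Z' : CurvSt.PtFamObj (Spec (CommRingCat.of k)) (r + m)) (a : Z' ⟶ c.B) (b : Z' ⟶ Y),
        ∃! z : Z' ⟶ Z, z ≫ α = a ∧ z ≫ β = b) ∧ Etale β.base.left ∧ QuasiCompact β.base.left

/-- **The data are represented by a smooth base change**, quasi-compact if the base is locally of finite type over the field
and the products with the chart are quasi-compact. -/
theorem exists_datRep_qc (hc : QcProd c) (Y : Fam G r) (hpre : CurvSt.IsPrestablePtdFam Y.f Y.sect Y.sect_f 0)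
    [LocallyOfFiniteType Y.base.hom] :
    ∃ (W : Over (Spec (CommRingCat.of k))) (b : W ⟶ Y.base) (D : Datum ℓ (bc Y b)),
      (SmoothOfRelativeDimension (m + 1) b.left ∧ QuasiCompact b.left) ∧
      ∀ (Z' : Fam G r) (b' : Z' ⟶ Y) (D' : Datum ℓ Z'), ∃! z : Z' ⟶ bc Y b, z ≫ bcHom Y b = b' ∧ IsPull D' D z := by
  have hYn : IsLocallyNoetherian Y.base.left := LocallyOfFiniteType.isLocallyNoetherian Y.base.hom
  obtain ⟨W₁, p₁, y₁, hy₁, hsm₁, hqc₁, hpre₁, hu₁⟩ := exists_secs_qc Y.f Y.sect Y.sect_f hpre m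
  have hP₁ : IsPre (famP Y p₁ y₁ hy₁) := hpre₁
  have hs₁ : Smooth p₁ := SmoothOfRelativeDimension.smooth m p₁
  have hft : LocallyOfFiniteType (p₁ ≫ Y.base.hom) := inferInstance
  obtain ⟨Z₂, α₂, β₂, hZ₂, het₂, hqc₂⟩ := hc _ hP₁ hft
  obtain ⟨W, b, D, ⟨π, hπ, hπ', hb⟩, hu⟩ := exists_datRep_core ℓ Y hu₁ α₂ β₂ hZ₂
  have hW₁n : IsLocallyNoetherian W₁ := LocallyOfFiniteType.isLocallyNoetherian p₁
  have hW₂n : IsLocallyNoetherian Z₂.base.left := by
    have : IsLocallyNoetherian (famP Y p₁ y₁ hy₁).base.left := hW₁n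
    exact LocallyOfFiniteType.isLocallyNoetherian β₂.base.left
  refine ⟨W, b, D, ⟨?_, ?_⟩, hu⟩
  · have h0 : SmoothOfRelativeDimension 0 β₂.base.left := inferInstance
    have h1 : SmoothOfRelativeDimension (1 + (0 + m)) (π ≫ β₂.base.left ≫ p₁) := inferInstance
    rw [hb]
    rwa [zero_add, add_comm] at h1
  · have h1 := hqc₁ hYn
    have h2 := hπ' hW₂n
    rw [hb]
    exact (inferInstance : QuasiCompact (π ≫ β₂.base.left ≫ p₁))

end K275.DatRep
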