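import Groth.Agent.AbVar.K139.PtSurj
import Groth.Agent.Ega3B.InvDiff
import Groth.Agent.Surf.K456.FlatInv
import Groth.Agent.Dcoh.FTFP
import Groth.Agent.Desc.K390.PnSec
import Groth.Agent.CurvesC.ReducedConnField
import Groth.Agent.S1635
import Groth.Agent.CurvSt.K312.NodeFin
import Groth.Prelude.Def_StMap

/-!
# Invertible modules which are isomorphic on a geometric fibre are isomorphic near this fibre

`f : C ⟶ T` proper flat of finite presentation, over an arbitrary base, `x : Spec K ⟶ T` a field valued point whose fibre `X`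
is nonempty, has `H^1(X, O) = 0` and no global functions except the units and `0`.

* `exists_sec`: `H^1(X, P_X) = 0`, `T` affine: the sections of `P` do not all vanish on `X` if `P_X` has a nonzero section;
* `exists_trivial`: if `P_X` is trivial, then `P` is trivial over a neighbourhood of the image of `x`;
* `exists_iso`: two invertible modules isomorphic on `X` are isomorphic over a neighbourhood;
* `exists_iso_of_isPrestablePtd`: the case of a prestable curve of genus zero.
-/

set_option autoImplicit false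

universe u

open CategoryTheory CategoryTheory.Limits AlgebraicGeometry TopologicalSpace

namespace K275.NearIso

open Groth.Agent Groth.Agent.Fdesc.LocGen K390.PnSec
open Groth.Agent.CohqA.PullbackUniv Groth.Agent.CohqA.PullbackAffine
  Groth.Agent.CohqA.PullbackSections Groth.Agent.CohqA.AffineBaseChange

variable {C T X : Scheme.{u}} {K : Type u} [Field K]

theorem isFP_of_isInvertible {X : Scheme.{u}} {L : X.Modules} (hL : PicF.IsInvertible L) : CohB1.IsFP L :=
  have h := K456.FlatInv.isFinLocFree_of_isInvertible hL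
  Dcoh.FTFP.isFP_of_cokernel_finLocFree h h (0 : L ⟶ L) (𝟙 _) (by simp) (CokernelCofork.IsColimit.ofId _ rfl)

theorem subsingleton_HH_of_iso {X : Scheme.{u}} {M N : X.Modules} (e : M ≅ N) (p : ℕ)
    (h : Subsingleton (Coh.HH X M p)) : Subsingleton (Coh.HH X N p) := by
  let e' : Coh.toAb M ≅ Coh.toAb N := (SheafOfModules.toSheaf X.ringCatSheaf).mapIso e
  refine subsingleton_of_forall_eq 0 fun x ↦ ?_
  have h1 : x = Sheaf.H.map e'.hom p (Sheaf.H.map e'.inv p x) := by
    rw [← Sheaf.H.map_comp_apply, e'.inv_hom_id, Sheaf.H.map_id_apply]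
  rw [h1, h.elim (Sheaf.H.map e'.inv p x) 0, map_zero]

/-- Over an affine base, the sections of `P` do not all vanish on the fibre. -/
theorem exists_sec (f : C ⟶ T) [IsProper f] [Flat f] [LocallyOfFinitePresentation f] [IsAffine T] {P : C.Modules}
    (hP : PicF.IsInvertible P) (x : Spec (CommRingCat.of K) ⟶ T) {i : X ⟶ C} {q : X ⟶ Spec (CommRingCat.of K)}
    (H : IsPullback i q f x) (h1 : Subsingleton (Coh.HH X ((Scheme.Modules.pullback i).obj P) 1))
    (hne : Nontrivial Γ((Scheme.Modules.pullback i).obj P, ⊤)) : ∃ s : Γ(P, ⊤), pullTop i s ≠ 0 := by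
  by_contra hcon
  have hcon : ∀ s : Γ(P, ⊤), pullTop i s = 0 := fun s => by_contra fun h => hcon ⟨s, h⟩
  have hPq : Coh.IsQCoh P := Ega2.QCohLocal.isQCoh_of_isInvertible hP
  have hu := K139.PtSurj.isUniv_of_van f hPq (isFP_of_isInvertible hP)
    (K456.FlatInv.isFlatOver_of_isInvertible f hP) x i q H h1
  have hM' : ((Scheme.Modules.pushforward f).obj P).IsQuasicoherent := Ega1.QcqsPush.isQCoh_pushforward f P hPq
  have hbc := isBC_secMap x _ hu (isAffineOpen_top T) (isAffineOpen_top (Spec (CommRingCat.of K))) le_top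
  have hsp := K54.PushBC.span_of_isBC hbc
  have hz : Set.range (secMap x (pushSquare f x i q H.w (pbUnit i P)) ⊤ ⊤ le_top).hom ⊆ {0} := by
    rintro _ ⟨m, rfl⟩
    have h5 := secMap_pushSquare f x i q H.w (pbUnit i P) ⊤ ⊤ le_rfl le_rfl m
    have h6 := h5.trans congr($(secMap_top i (pbUnit i P)) m)
    exact h6.trans (hcon m)
  have h7 : Submodule.span Γ(Spec (CommRingCat.of K), ⊤)
      (Set.range (secMap x (pushSquare f x i q H.w (pbUnit i P)) ⊤ ⊤ le_top).hom) = ⊥ := by
    rw [Submodule.span_eq_bot]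
    intro z hz'
    exact hz hz'
  rw [h7] at hsp
  have h8 : Subsingleton Γ((Scheme.Modules.pushforward q).obj ((Scheme.Modules.pullback i).obj P), ⊤) :=
    (Submodule.subsingleton_iff _).mp (subsingleton_of_bot_eq_top hsp)
  exact not_nontrivial_iff_subsingleton.mpr h8 hne

/-- Every point over the image of a field valued point is in the image of the fibre. -/
theorem exists_preimage {f : C ⟶ T} {x : Spec (CommRingCat.of K) ⟶ T} {i : X ⟶ C} {q : X ⟶ Spec (CommRingCat.of K)}
    (H : IsPullback i q f x) (c : C) (hc : f c = x (IsLocalRing.closedPoint K)) : ∃ y : X, i y = c := by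
  obtain ⟨z, hz, -⟩ := Scheme.Pullback.exists_preimage_pullback (f := f) (g := x) c (IsLocalRing.closedPoint K) hc
  refine ⟨H.isoPullback.inv z, ?_⟩
  rw [← Scheme.Hom.comp_apply, H.isoPullback_inv_fst, hz]

/-- Over an affine base, a section of `P` which generates near the fibre. -/
theorem exists_gen (f : C ⟶ T) [IsProper f] [Flat f] [LocallyOfFinitePresentation f] [IsAffine T] {P : C.Modules}
    (hP : PicF.IsInvertible P) (x : Spec (CommRingCat.of K) ⟶ T) {i : X ⟶ C} {q : X ⟶ Spec (CommRingCat.of K)}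
    (H : IsPullback i q f x) (h1 : Subsingleton (Coh.HH X (Coh.structureModule X) 1)) (h0 : IsField Γ(X, ⊤))
    (e : (Scheme.Modules.pullback i).obj P ≅ Coh.structureModule X) :
    ∃ (s : Γ(P, ⊤)) (V : T.Opens), x (IsLocalRing.closedPoint K) ∈ V ∧ f ⁻¹ᵁ V ≤ CohB1.genLocus P (homOf s) := by
  have hb : Function.Bijective (e.hom.app ⊤) := ConcreteCategory.bijective_of_isIso (e.hom.app ⊤)
  have hnt : Nontrivial Γ(X, ⊤) := h0.nontrivial
  have hne : Nontrivial Γ((Scheme.Modules.pullback i).obj P, ⊤) := by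
    obtain ⟨a, ha⟩ := hb.surjective (ofFun (1 : Γ(X, ⊤)))
    refine ⟨a, 0, fun h => ?_⟩
    rw [h, map_zero] at ha
    exact one_ne_zero ((ofFun (X := X) (U := ⊤)).injective ((map_zero _).trans ha).symm)
  obtain ⟨s, hs⟩ := exists_sec f hP x H (subsingleton_HH_of_iso e.symm 1 h1) hne
  obtain ⟨a, ha⟩ := (ofFun (X := X) (U := ⊤)).surjective (e.hom.app ⊤ (pullTop i s))
  have ha0 : a ≠ 0 := by
    rintro rfl
    rw [map_zero] at ha
    exact hs (hb.injective (ha.symm.trans (map_zero _).symm))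
  obtain ⟨b, hab⟩ := h0.mul_inv_cancel ha0
  have hgen : IsGen (pullTop i s) := by
    rw [← isGen_app_iff e.hom, ← ha, ofFun_eq_smul]
    exact (isGen_one ⊤).unit_smul (IsUnit.of_mul_eq_one b hab)
  have hgl : i ⁻¹ᵁ (CohB1.genLocus P (homOf s)) = ⊤ := by
    rw [← genLocus_pullTop i hP, ← top_le_iff, le_genLocus_iff, sec_homOf, res_refl]
    exact hgen
  refine ⟨s, ⟨(f '' (CohB1.genLocus P (homOf s) : Set C)ᶜ)ᶜ,
    (f.isClosedMap _ (CohB1.genLocus P (homOf s)).2.isClosed_compl).isOpen_compl⟩, ?_, ?_⟩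
  · rintro ⟨c, hc, hcx⟩
    obtain ⟨y, rfl⟩ := exists_preimage H c hcx
    have : y ∈ i ⁻¹ᵁ (CohB1.genLocus P (homOf s)) := by rw [hgl]; trivial
    exact hc this
  · intro c hc
    by_contra h
    exact hc ⟨c, h, rfl⟩

theorem nonempty_of_gen {P : C.Modules} (hP : PicF.IsInvertible P) (s : Γ(P, ⊤)) {C' : Scheme.{u}} (i' : C' ⟶ C)
    (h : ∀ c, i' c ∈ CohB1.genLocus P (homOf s)) :
    Nonempty ((Scheme.Modules.pullback i').obj P ≅ Coh.structureModule C') := by
  have h1 : CohB1.genLocus _ (homOf (pullTop i' s)) = ⊤ := by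
    rw [genLocus_pullTop i' hP, ← top_le_iff]
    exact fun c _ => h c
  have h2 : IsIso (homOf (pullTop i' s)) := by
    rw [isIso_iff_isGen, sec_homOf]
    have h3 := (le_genLocus_iff (homOf (pullTop i' s)) ⊤).mp h1.ge
    rwa [sec_homOf] at h3
  exact ⟨(asIso (homOf (pullTop i' s))).symm⟩

/-- If `P` is trivial on the fibre, then it is trivial over a neighbourhood. -/
theorem exists_trivial (f : C ⟶ T) [IsProper f] [Flat f] [LocallyOfFinitePresentation f] {P : C.Modules}
    (hP : PicF.IsInvertible P) (x : Spec (CommRingCat.of K) ⟶ T) {i : X ⟶ C} {q : X ⟶ Spec (CommRingCat.of K)}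
    (H : IsPullback i q f x) (h1 : Subsingleton (Coh.HH X (Coh.structureModule X) 1)) (h0 : IsField Γ(X, ⊤))
    (e : (Scheme.Modules.pullback i).obj P ≅ Coh.structureModule X) :
    ∃ V : T.Opens, x (IsLocalRing.closedPoint K) ∈ V ∧ ∀ {C' : Scheme.{u}} (i' : C' ⟶ C), (∀ c, f (i' c) ∈ V) →
      Nonempty ((Scheme.Modules.pullback i').obj P ≅ Coh.structureModule C') := by
  obtain ⟨V₀, hV₀, hx₀, -⟩ := exists_isAffineOpen_mem_and_subset (x := x (IsLocalRing.closedPoint K)) (U := ⊤) trivial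
  have : IsAffine V₀.toScheme := hV₀
  have hr : Set.range x ⊆ Set.range V₀.ι := by
    rw [Scheme.Opens.range_ι]
    rintro _ ⟨z, rfl⟩
    rw [Subsingleton.elim z (IsLocalRing.closedPoint K)]
    exact hx₀
  let x₀ : Spec (CommRingCat.of K) ⟶ V₀.toScheme := IsOpenImmersion.lift V₀.ι x hr
  have hx : x₀ ≫ V₀.ι = x := IsOpenImmersion.lift_fac _ _ _
  let j := pullback.fst f V₀.ι
  let f₀ := pullback.snd f V₀.ι
  have sq : IsPullback j f₀ f V₀.ι := IsPullback.of_hasPullback _ _
  let i₀ : X ⟶ pullback f V₀.ι := sq.lift i (q ≫ x₀) (by rw [Category.assoc, hx, H.w])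
  have hi₀ : i₀ ≫ j = i := sq.lift_fst _ _ _
  have H₀ : IsPullback i₀ q f₀ x₀ := by
    refine IsPullback.of_right (h₁₂ := j) (h₂₂ := V₀.ι) (v₁₃ := f) ?_ (sq.lift_snd _ _ _) sq
    rw [hi₀, hx]
    exact H
  obtain ⟨s, V, hxV, hV⟩ := exists_gen f₀ (isInvertible_pullback j hP) x₀ H₀ h1 h0
    ((Scheme.Modules.pullbackComp i₀ j).app P ≪≫ (Scheme.Modules.pullbackCongr hi₀).app P ≪≫ e)
  refine ⟨V₀.ι ''ᵁ V, ?_, fun {C'} i' hi' => ?_⟩
  · rw [← hx]
    exact ⟨_, hxV, rfl⟩
  · have hr' : Set.range (i' ≫ f) ⊆ Set.range V₀.ι := by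
      rintro _ ⟨c, rfl⟩
      obtain ⟨v, -, hv⟩ := hi' c
      exact ⟨v, hv⟩
    let a : C' ⟶ V₀.toScheme := IsOpenImmersion.lift V₀.ι (i' ≫ f) hr'
    have ha : a ≫ V₀.ι = i' ≫ f := IsOpenImmersion.lift_fac _ _ _
    let l : C' ⟶ pullback f V₀.ι := sq.lift i' a ha.symm
    have hl : l ≫ j = i' := sq.lift_fst _ _ _
    have hla : l ≫ f₀ = a := sq.lift_snd _ _ _
    obtain ⟨e'⟩ := nonempty_of_gen (isInvertible_pullback j hP) s l fun c => hV (by
      change f₀ (l c) ∈ V
      obtain ⟨v, hv, hv'⟩ := hi' c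
      have h2 : V₀.ι (a c) = V₀.ι v := by
        rw [← Scheme.Hom.comp_apply, ha, Scheme.Hom.comp_apply]
        exact hv'.symm
      rw [← Scheme.Hom.comp_apply, hla, V₀.ι.isOpenEmbedding.injective h2]
      exact hv)
    exact ⟨(Scheme.Modules.pullbackCongr hl.symm).app P ≪≫ ((Scheme.Modules.pullbackComp l j).app P).symm ≪≫ e'⟩

/-- Two invertible modules which are isomorphic on the fibre are isomorphic over a neighbourhood. -/
theorem exists_iso (f : C ⟶ T) [IsProper f] [Flat f] [LocallyOfFinitePresentation f] {L M : C.Modules}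
    (hL : PicF.IsInvertible L) (hM : PicF.IsInvertible M) (x : Spec (CommRingCat.of K) ⟶ T) {i : X ⟶ C}
    {q : X ⟶ Spec (CommRingCat.of K)} (H : IsPullback i q f x)
    (h1 : Subsingleton (Coh.HH X (Coh.structureModule X) 1)) (h0 : IsField Γ(X, ⊤))
    (e : Nonempty ((Scheme.Modules.pullback i).obj L ≅ (Scheme.Modules.pullback i).obj M)) :
    ∃ V : T.Opens, x (IsLocalRing.closedPoint K) ∈ V ∧ ∀ {C' : Scheme.{u}} (i' : C' ⟶ C), (∀ c, f (i' c) ∈ V) →
      Nonempty ((Scheme.Modules.pullback i').obj L ≅ (Scheme.Modules.pullback i').obj M) := by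
  obtain ⟨P, hP, hd⟩ := Ega3B.InvDiff.exists_difference L M hL hM
  obtain ⟨e'⟩ := (hd i).mp e
  obtain ⟨V, hxV, hV⟩ := exists_trivial f hP x H h1 h0 e'
  exact ⟨V, hxV, fun i' h => (hd i').mpr (hV i' h)⟩

/-- The functions on a prestable curve, and its `H^1`. -/
theorem isField_and_subsingleton {Ω : Type u} [Field Ω] [IsAlgClosed Ω] {X : Scheme.{u}}
    {q : X ⟶ Spec (CommRingCat.of Ω)} {n : ℕ} {y : Fin n → X} (h : StMap.IsPrestablePtd Ω X q 0 y) :
    IsField Γ(X, ⊤) ∧ Subsingleton (Coh.HH X (Coh.structureModule X) 1) := by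
  obtain ⟨hq, hc, -, ⟨hn, hg⟩, -⟩ := h
  have hred : IsReduced X := K312.NodeFin.isReduced_of_nodal q hn
  refine ⟨CurvesC.ReducedConnField.isField_of_universallyClosed q, ?_⟩
  let : X.Over (Spec (CommRingCat.of Ω)) := ⟨q⟩
  have : IsProper (X ↘ Spec (CommRingCat.of Ω)) := hq
  exact S1635.h1_structure Ω X hg

/-- Two invertible modules which are isomorphic on a prestable geometric fibre of genus zero are isomorphic over a
neighbourhood. -/
theorem exists_iso_of_isPrestablePtd (f : C ⟶ T) [IsProper f] [Flat f] [LocallyOfFinitePresentation f] {L M : C.Modules}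
    (hL : PicF.IsInvertible L) (hM : PicF.IsInvertible M) {Ω : Type u} [Field Ω] [IsAlgClosed Ω]
    (x : Spec (CommRingCat.of Ω) ⟶ T) {i : X ⟶ C} {q : X ⟶ Spec (CommRingCat.of Ω)} (H : IsPullback i q f x)
    {n : ℕ} {y : Fin n → X} (h : StMap.IsPrestablePtd Ω X q 0 y)
    (e : Nonempty ((Scheme.Modules.pullback i).obj L ≅ (Scheme.Modules.pullback i).obj M)) :
    ∃ V : T.Opens, x (IsLocalRing.closedPoint Ω) ∈ V ∧ ∀ {C' : Scheme.{u}} (i' : C' ⟶ C), (∀ c, f (i' c) ∈ V) →
      Nonempty ((Scheme.Modules.pullback i').obj L ≅ (Scheme.Modules.pullback i').obj M) :=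
  exists_iso f hL hM x H (isField_and_subsingleton h).2 (isField_and_subsingleton h).1 e

end K275.NearIso
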