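import Groth.Agent.Fano.K188.LinFun
import Groth.Agent.Grass.K652.ChartAff

/-!
# The punctured affine space and projective space

* `Uni φ`: the functions `φ_0, …, φ_N` generate the unit ideal; `cls φ h : T ⟶ P^N` the morphism with these coordinates;
* `cls_eq_iff`: `φ` and `φ'` have the same class iff `φ' = w φ` for a unit `w`;
* `OO N`: the punctured affine space over the integers, `cc i` its coordinates, `toO φ h`, `q0 : OO N ⟶ P^N`;
* `smooth_q0`: `q0` is smooth of relative dimension `1`.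
-/

set_option autoImplicit false
universe u
open CategoryTheory CategoryTheory.Limits AlgebraicGeometry TopologicalSpace

namespace K275.PnCone

open K390.PnSec Groth.Agent.Fdesc.LocGen Groth.Agent.Dix.ProjProper
open Groth.Agent.Ega2.H295.PnUniq Groth.Agent.Ega2.H295.PnCoord

variable {T T' : Scheme.{u}} {N : ℕ}

/-! ### unimodular rows -/

/-- The functions `φ` have no common zero. -/
def Uni (φ : Fin (N + 1) → Γ(T, ⊤)) : Prop := ⨆ i, T.basicOpen (φ i) = ⊤

theorem Uni.pull {φ : Fin (N + 1) → Γ(T, ⊤)} (h : Uni φ) (g : T' ⟶ T) : Uni (fun i => g.appTop (φ i)) := by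
  have h1 : ⨆ i, g ⁻¹ᵁ (T.basicOpen (φ i)) = (⊤ : T'.Opens) := by
    rw [← Scheme.Hom.preimage_iSup]
    exact (congrArg (g ⁻¹ᵁ ·) h)
  exact (iSup_congr fun i => (Scheme.preimage_basicOpen g (φ i)).symm).trans h1

theorem genLocus_ofFun (a : Γ(T, ⊤)) :
    CohB1.genLocus (Coh.structureModule T) (homOf (ofFun a)) = T.basicOpen a := by
  have h := genLocus_inf_eq (homOf (ofFun a)) (isGen_one (⊤ : T.Opens)) (a := a) (by
    rw [sec_homOf, res_refl, ofFun_eq_smul])
  rwa [inf_top_eq] at h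

theorem Uni.iSup_genLocus {φ : Fin (N + 1) → Γ(T, ⊤)} (h : Uni φ) :
    ⨆ i, CohB1.genLocus (Coh.structureModule T) (homOf (ofFun (φ i))) = ⊤ := by
  exact (iSup_congr fun i => genLocus_ofFun _).trans h

/-- The morphism to projective space with coordinates `φ`. -/
noncomputable def cls (φ : Fin (N + 1) → Γ(T, ⊤)) (h : Uni φ) : T ⟶ CohB1.ProjSpace N Z.{u} :=
  (exists_givenBy' (M := Coh.structureModule T) (fun i => ofFun (φ i)) h.iSup_genLocus).choose

theorem givenBy_cls (φ : Fin (N + 1) → Γ(T, ⊤)) (h : Uni φ) :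
    GivenBy (cls φ h) (Coh.structureModule T) (fun i => ofFun (φ i)) :=
  (exists_givenBy' (M := Coh.structureModule T) (fun i => ofFun (φ i)) h.iSup_genLocus).choose_spec

theorem uni_of_givenBy {φ : Fin (N + 1) → Γ(T, ⊤)} {r : T ⟶ CohB1.ProjSpace N Z.{u}}
    (h : GivenBy r (Coh.structureModule T) (fun i => ofFun (φ i))) : Uni φ := by
  exact (iSup_congr fun i => (genLocus_ofFun _).symm).trans h.iSup_genLocus

theorem eq_cls {φ : Fin (N + 1) → Γ(T, ⊤)} {r : T ⟶ CohB1.ProjSpace N Z.{u}}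
    (h : GivenBy r (Coh.structureModule T) (fun i => ofFun (φ i))) : r = cls φ (uni_of_givenBy h) :=
  h.unique' (givenBy_cls _ _)

theorem comp_cls (g : T' ⟶ T) (φ : Fin (N + 1) → Γ(T, ⊤)) (h : Uni φ) :
    g ≫ cls φ h = cls (fun i => g.appTop (φ i)) (h.pull g) :=
  (K188.LinFun.givenBy_ofFun_comp (givenBy_cls φ h) g).unique' (givenBy_cls _ _)

theorem cls_congr {φ φ' : Fin (N + 1) → Γ(T, ⊤)} (e : φ = φ') (h : Uni φ) (h' : Uni φ') :
    cls φ h = cls φ' h' := by
  subst e; rfl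

theorem cls_eq_iff {φ φ' : Fin (N + 1) → Γ(T, ⊤)} (h : Uni φ) (h' : Uni φ') :
    cls φ h = cls φ' h' ↔ ∃ w : Γ(T, ⊤), IsUnit w ∧ ∀ i, φ' i = w * φ i := by
  constructor
  · intro hc
    have h1 := givenBy_cls φ h
    rw [hc] at h1
    obtain ⟨e, he⟩ := h1.exists_iso (givenBy_cls φ' h')
    obtain ⟨w, hw, hw'⟩ := (isGen_one (⊤ : T.Opens)).exists_unit ((isGen_one (⊤ : T.Opens)).app e.hom)
    refine ⟨w, hw, fun i => ?_⟩
    have h2 : e.hom.app ⊤ (ofFun (φ i)) = φ i • e.hom.app ⊤ (one ⊤) := by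
      rw [ofFun_eq_smul]
      exact Scheme.Modules.Hom.app_smul e.hom (φ i) (one ⊤)
    have h3 : ofFun (φ' i) = φ i • (w • one (⊤ : T.Opens)) := by
      rw [← hw', ← h2]
      exact (he i).symm
    have h4 : ofFun (φ' i) = ofFun (w * φ i) := by
      rw [h3, smul_smul, mul_comm, ← ofFun_eq_smul]
    exact ofFun.injective h4
  · rintro ⟨w, hw, hφ⟩
    have hg : IsGen (w • one (⊤ : T.Opens)) := (isGen_one (⊤ : T.Opens)).unit_smul hw
    have hi : IsIso (homOf (w • one (⊤ : T.Opens))) := by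
      rw [isIso_iff_isGen, sec_homOf, res_refl]
      exact hg
    have h1 := (givenBy_cls φ h).of_iso (asIso (homOf (w • one (⊤ : T.Opens))))
    have h2 : (fun i => (asIso (homOf (w • one (⊤ : T.Opens)))).hom.app ⊤ (ofFun (φ i))) = fun i => ofFun (φ' i) := by
      funext i
      rw [asIso_hom, homOf_app, res_refl, smul_smul, hφ i, mul_comm, ofFun_eq_smul]
    rw [h2] at h1
    exact h1.unique' (givenBy_cls φ' h')

theorem Uni.eq_of_mul {φ : Fin (N + 1) → Γ(T, ⊤)} (h : Uni φ) {w w' : Γ(T, ⊤)} (e : ∀ i, w * φ i = w' * φ i) :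
    w = w' := by
  refine ores_ext (fun i => T.basicOpen (φ i)) (fun i => le_top) h.ge fun i => ?_
  have hu : IsUnit (ores (le_top : T.basicOpen (φ i) ≤ ⊤) (φ i)) := T.toRingedSpace.isUnit_res_basicOpen (φ i)
  have h1 := congrArg (ores (le_top : T.basicOpen (φ i) ≤ ⊤)) (e i)
  rw [map_mul, map_mul] at h1
  exact hu.mul_right_cancel h1

/-! ### the punctured affine space -/

/-- The spectrum of the integers. -/
noncomputable abbrev ZS : Scheme.{u} := Spec (CommRingCat.of Z.{u})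

/-- The affine space over the integers. -/
noncomputable abbrev AA (N : ℕ) : Scheme.{u} := 𝔸(ULift.{u} (Fin (N + 1)); ZS.{u})

/-- The punctured affine space. -/
noncomputable def OO (N : ℕ) : (AA.{u} N).Opens :=
  ⨆ i : Fin (N + 1), (AA.{u} N).basicOpen (AffineSpace.coord _ ⟨i⟩)

/-- The coordinates on the punctured affine space. -/
noncomputable def cc (i : Fin (N + 1)) : Γ((OO.{u} N).toScheme, ⊤) :=
  (OO.{u} N).ι.appTop (AffineSpace.coord _ ⟨i⟩)

theorem uni_cc : Uni (cc.{u} (N := N)) := by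
  have h1 : ⨆ i : Fin (N + 1), (OO.{u} N).ι ⁻¹ᵁ ((AA.{u} N).basicOpen (AffineSpace.coord _ ⟨i⟩)) = ⊤ := by
    rw [← Scheme.Hom.preimage_iSup]
    exact (OO.{u} N).ι_preimage_self
  exact (iSup_congr fun i => (Scheme.preimage_basicOpen _ _).symm).trans h1

/-- The morphism to the punctured affine space with coordinates `φ`. -/
noncomputable def toO (φ : Fin (N + 1) → Γ(T, ⊤)) (h : Uni φ) : T ⟶ (OO.{u} N).toScheme :=
  IsOpenImmersion.lift (OO.{u} N).ι
    (AffineSpace.homOfVector (specULiftZIsTerminal.from T) (fun i : ULift.{u} (Fin (N + 1)) => φ i.down)) (by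
      rw [Scheme.Opens.range_ι]
      rintro _ ⟨t, rfl⟩
      have ht : t ∈ ⨆ i, T.basicOpen (φ i) := by rw [h]; trivial
      obtain ⟨i, hi⟩ := Opens.mem_iSup.mp ht
      refine Opens.mem_iSup.mpr ⟨i, ?_⟩
      change t ∈ (AffineSpace.homOfVector (specULiftZIsTerminal.from T)
        (fun i : ULift.{u} (Fin (N + 1)) => φ i.down)) ⁻¹ᵁ ((AA.{u} N).basicOpen (AffineSpace.coord _ ⟨i⟩))
      rw [Scheme.preimage_basicOpen]
      exact (congrArg (fun a => t ∈ T.basicOpen a) (AffineSpace.homOfVector_appTop_coord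
        (specULiftZIsTerminal.from T) (fun i : ULift.{u} (Fin (N + 1)) => φ i.down) ⟨i⟩)).mpr hi)

theorem toO_ι (φ : Fin (N + 1) → Γ(T, ⊤)) (h : Uni φ) : toO φ h ≫ (OO.{u} N).ι =
    AffineSpace.homOfVector (specULiftZIsTerminal.from T) (fun i : ULift.{u} (Fin (N + 1)) => φ i.down) :=
  IsOpenImmersion.lift_fac _ _ _

theorem toO_cc (φ : Fin (N + 1) → Γ(T, ⊤)) (h : Uni φ) (i : Fin (N + 1)) : (toO φ h).appTop (cc i) = φ i := by
  have h1 := AffineSpace.homOfVector_appTop_coord (specULiftZIsTerminal.from T)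
    (fun i : ULift.{u} (Fin (N + 1)) => φ i.down) ⟨i⟩
  rw [← toO_ι φ h] at h1
  exact h1

theorem hom_ext {a b : T ⟶ (OO.{u} N).toScheme} (h : ∀ i, a.appTop (cc i) = b.appTop (cc i)) : a = b := by
  rw [← cancel_mono (OO.{u} N).ι]
  refine AffineSpace.hom_ext (specULiftZIsTerminal.hom_ext _ _) ?_
  rintro ⟨i⟩
  exact h i

theorem toO_eq (a : T ⟶ (OO.{u} N).toScheme) : a = toO (fun i => a.appTop (cc i)) (uni_cc.pull a) :=
  hom_ext fun i => (toO_cc (fun i => a.appTop (cc i)) (uni_cc.pull a) i).symm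

/-- The canonical morphism to projective space. -/
noncomputable def q0 (N : ℕ) : (OO.{u} N).toScheme ⟶ CohB1.ProjSpace N Z.{u} := cls cc uni_cc

theorem comp_q0 (a : T ⟶ (OO.{u} N).toScheme) : a ≫ q0 N = cls (fun i => a.appTop (cc i)) (uni_cc.pull a) :=
  comp_cls _ _ _

theorem toO_q0 (φ : Fin (N + 1) → Γ(T, ⊤)) (h : Uni φ) : toO φ h ≫ q0 N = cls φ h := by
  rw [comp_q0]
  exact cls_congr (funext fun i => toO_cc φ h i) _ _

end K275.PnCone
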