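import Groth.Agent.Fano.K275.PnCone

/-!
# The punctured affine space is a punctured line bundle over projective space

* `isPullback_line`: the pullback of `q0 : OO N ⟶ P^N` along `cls a h : V ⟶ P^N` is the punctured line over `V`;
* `smooth_q0`, `isAffineHom_q0`.
-/

set_option autoImplicit false
universe u
open CategoryTheory CategoryTheory.Limits AlgebraicGeometry TopologicalSpace

namespace K275.PnCone

open K390.PnSec Groth.Agent.Fdesc.LocGen Groth.Agent.Dix.ProjProper
open Groth.Agent.Ega2.H295.PnUniq Groth.Agent.Ega2.H295.PnCoord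

variable {T T' V : Scheme.{u}} {N : ℕ}

/-! ### the punctured line -/

/-- The punctured line, as an open subset of the line. -/
noncomputable def LO (V : Scheme.{u}) : (𝔸(ULift.{u} (Fin 1); V)).Opens :=
  (𝔸(ULift.{u} (Fin 1); V)).basicOpen (AffineSpace.coord V ⟨0⟩)

/-- The punctured line. -/
noncomputable abbrev LL (V : Scheme.{u}) : Scheme.{u} := (LO V).toScheme

/-- The projection of the punctured line. -/
noncomputable def lp (V : Scheme.{u}) : LL V ⟶ V := (LO V).ι ≫ (𝔸(ULift.{u} (Fin 1); V) ↘ V)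

/-- The coordinate on the punctured line. -/
noncomputable def lw (V : Scheme.{u}) : Γ(LL V, ⊤) := (LO V).ι.appTop (AffineSpace.coord V ⟨0⟩)

theorem isUnit_of_basicOpen_eq_top {a : Γ(T, ⊤)} (h : T.basicOpen a = ⊤) : IsUnit a := by
  have := T.toRingedSpace.isUnit_res_basicOpen a
  have h1 : IsUnit (ores (le_top : T.basicOpen a ≤ ⊤) a) := this
  have h2 : Function.Bijective (ores (le_top : T.basicOpen a ≤ ⊤)) := by
    rw [h]
    have : (ores (le_refl (⊤ : T.Opens)) : Γ(T, ⊤) → Γ(T, ⊤)) = id := funext fun b => ores_refl b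
    rw [this]
    exact Function.bijective_id
  have h3 := h1.map (RingEquiv.ofBijective _ h2).symm
  rwa [show (RingEquiv.ofBijective _ h2).symm (ores (le_top : T.basicOpen a ≤ ⊤) a) = a from
    (RingEquiv.ofBijective _ h2).symm_apply_apply a] at h3

theorem isUnit_lw (V : Scheme.{u}) : IsUnit (lw V) := by
  apply isUnit_of_basicOpen_eq_top
  have h1 : (LO V).ι ⁻¹ᵁ (LO V) = ⊤ := (LO V).ι_preimage_self
  exact (Scheme.preimage_basicOpen (LO V).ι _).symm.trans h1

instance isAffineHom_lp (V : Scheme.{u}) : IsAffineHom (lp V) := by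
  have h1 : IsAffineHom ((𝔸(ULift.{u} (Fin 1); V)).basicOpen (AffineSpace.coord V ⟨0⟩)).ι := inferInstance
  exact MorphismProperty.comp_mem _ _ _ h1 inferInstance

instance smooth_lp (V : Scheme.{u}) : SmoothOfRelativeDimension 1 (lp V) := by
  have h1 := K652.ChartAff.smooth_affineSpace 1 V
  have h2 : SmoothOfRelativeDimension 0 (LO V).ι := inferInstance
  exact (inferInstance : SmoothOfRelativeDimension (0 + 1) ((LO V).ι ≫ (𝔸(ULift.{u} (Fin 1); V) ↘ V)))

/-- The morphism to the punctured line. -/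
noncomputable def toL (g : T ⟶ V) (w : Γ(T, ⊤)) (hw : IsUnit w) : T ⟶ LL V :=
  IsOpenImmersion.lift (LO V).ι (AffineSpace.homOfVector g (fun _ : ULift.{u} (Fin 1) => w)) (by
    rw [Scheme.Opens.range_ι]
    rintro _ ⟨t, rfl⟩
    change t ∈ (AffineSpace.homOfVector g (fun _ : ULift.{u} (Fin 1) => w)) ⁻¹ᵁ
      ((𝔸(ULift.{u} (Fin 1); V)).basicOpen (AffineSpace.coord V ⟨0⟩))
    rw [Scheme.preimage_basicOpen]
    refine (congrArg (fun a => t ∈ T.basicOpen a) (AffineSpace.homOfVector_appTop_coord g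
      (fun _ : ULift.{u} (Fin 1) => w) ⟨0⟩)).mpr ?_
    rw [Scheme.basicOpen_of_isUnit _ hw]
    trivial)

theorem toL_ι (g : T ⟶ V) (w : Γ(T, ⊤)) (hw : IsUnit w) : toL g w hw ≫ (LO V).ι =
    AffineSpace.homOfVector g (fun _ : ULift.{u} (Fin 1) => w) := IsOpenImmersion.lift_fac _ _ _

theorem toL_lp (g : T ⟶ V) (w : Γ(T, ⊤)) (hw : IsUnit w) : toL g w hw ≫ lp V = g := by
  rw [lp, ← Category.assoc, toL_ι, AffineSpace.homOfVector_over]

theorem toL_lw (g : T ⟶ V) (w : Γ(T, ⊤)) (hw : IsUnit w) : (toL g w hw).appTop (lw V) = w := by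
  have h1 := AffineSpace.homOfVector_appTop_coord g (fun _ : ULift.{u} (Fin 1) => w) ⟨0⟩
  rw [← toL_ι g w hw] at h1
  exact h1

theorem line_ext {a b : T ⟶ LL V} (h : a ≫ lp V = b ≫ lp V) (h' : a.appTop (lw V) = b.appTop (lw V)) : a = b := by
  rw [← cancel_mono (LO V).ι]
  refine AffineSpace.hom_ext (by simpa [lp] using h) ?_
  rintro ⟨i⟩
  obtain rfl : i = 0 := Subsingleton.elim _ _
  exact h'

/-! ### the pullback of `q0` -/

theorem uni_mul {φ : Fin (N + 1) → Γ(T, ⊤)} (h : Uni φ) {w : Γ(T, ⊤)} (hw : IsUnit w) : Uni (fun i => w * φ i) := by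
  refine (iSup_congr fun i => ?_).trans h
  rw [Scheme.basicOpen_mul, Scheme.basicOpen_of_isUnit _ hw, top_inf_eq]

/-- The morphism from the punctured line over `V` to the punctured affine space given by the row `a` on `V`. -/
noncomputable def lineTo (a : Fin (N + 1) → Γ(V, ⊤)) (h : Uni a) : LL V ⟶ (OO.{u} N).toScheme :=
  toO (fun i => lw V * (lp V).appTop (a i)) (uni_mul (h.pull (lp V)) (isUnit_lw V))

theorem lineTo_cc (a : Fin (N + 1) → Γ(V, ⊤)) (h : Uni a) (i : Fin (N + 1)) :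
    (lineTo a h).appTop (cc i) = lw V * (lp V).appTop (a i) := toO_cc _ _ i

theorem isPullback_line (a : Fin (N + 1) → Γ(V, ⊤)) (h : Uni a) :
    IsPullback (lineTo a h) (lp V) (q0 N) (cls a h) := by
  have hw : lineTo a h ≫ q0 N = lp V ≫ cls a h := by
    rw [comp_cls, lineTo, toO_q0, eq_comm, cls_eq_iff]
    exact ⟨lw V, isUnit_lw V, fun i => rfl⟩
  have key : ∀ (s : PullbackCone (q0 N) (cls a h)), ∃ l : s.pt ⟶ LL V, l ≫ lineTo a h = s.fst ∧ l ≫ lp V = s.snd := by
    intro s
    have h1 : cls _ (h.pull s.snd) = cls _ (uni_cc.pull s.fst) := by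
      rw [← comp_cls, ← comp_q0]
      exact s.condition.symm
    obtain ⟨w, hw, hφ⟩ := (cls_eq_iff _ _).mp h1
    refine ⟨toL s.snd w hw, hom_ext fun i => ?_, toL_lp _ _ _⟩
    have h2 : (toL s.snd w hw).appTop ((lp V).appTop (a i)) = s.snd.appTop (a i) := by
      have h3 := congrArg (fun m : s.pt ⟶ V => m.appTop (a i)) (toL_lp s.snd w hw)
      exact h3
    have h4 : (toL s.snd w hw ≫ lineTo a h).appTop (cc i) = (toL s.snd w hw).appTop ((lineTo a h).appTop (cc i)) := rfl
    rw [h4, lineTo_cc, map_mul, toL_lw, h2]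
    exact (hφ i).symm
  refine ⟨⟨hw⟩, ⟨PullbackCone.IsLimit.mk hw (fun s => (key s).choose) (fun s => (key s).choose_spec.1)
    (fun s => (key s).choose_spec.2) ?_⟩⟩
  intro s m hm1 hm2
  refine line_ext (hm2.trans (key s).choose_spec.2.symm) ?_
  have hu : Uni (fun i => s.snd.appTop (a i)) := h.pull s.snd
  refine hu.eq_of_mul fun i => ?_
  have h5 : ∀ (l : s.pt ⟶ LL V), l ≫ lineTo a h = s.fst → l ≫ lp V = s.snd →
      l.appTop (lw V) * s.snd.appTop (a i) = s.fst.appTop (cc i) := by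
    intro l hl1 hl2
    rw [← hl1, ← hl2]
    have h6 : (l ≫ lineTo a h).appTop (cc i) = l.appTop ((lineTo a h).appTop (cc i)) := rfl
    rw [h6, lineTo_cc, map_mul]
    rfl
  rw [h5 m hm1 hm2, h5 _ (key s).choose_spec.1 (key s).choose_spec.2]

/-! ### the charts of projective space -/

/-- A morphism to projective space with a unit coordinate is a class. -/
theorem exists_eq_cls (r : T ⟶ CohB1.ProjSpace N Z.{u}) (i : Fin (N + 1))
    (hr : r ⁻¹ᵁ Dp (Fin (N + 1)) Z.{u} i = ⊤) : ∃ (a : Fin (N + 1) → Γ(T, ⊤)) (h : Uni a), r = cls a h := by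
  have h1 := isGen_res_tsec r i hr.ge
  have h2 : IsGen (tsec r i) := by
    have : res ((Scheme.Modules.pullback r).obj (O1 N Z.{u})) (le_top : (⊤ : T.Opens) ≤ ⊤) (tsec r i) = tsec r i :=
      res_refl _ _
    rw [← this]
    exact h1
  have hi : IsIso (homOf (tsec r i)) := by
    rw [isIso_iff_isGen, sec_homOf, res_refl]
    exact h2
  have h3 := (GivenBy.refl r).of_iso (asIso (homOf (tsec r i))).symm
  have h4 : GivenBy r (Coh.structureModule T)
      (fun j => ofFun (ofFun.symm ((asIso (homOf (tsec r i))).symm.hom.app ⊤ (tsec r j)))) := h3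
  exact ⟨_, uni_of_givenBy h4, eq_cls h4⟩

/-- The standard charts of projective space. -/
noncomputable def DD (i : Fin (N + 1)) : (CohB1.ProjSpace N Z.{u}).Opens := Dp (Fin (N + 1)) Z.{u} i

theorem iSup_DD : ⨆ i : Fin (N + 1), DD.{u} i = ⊤ := iSup_preimage (𝟙 _)

theorem prop_of_isPullback (P : MorphismProperty Scheme.{u}) [P.RespectsIso] {A A' B C D : Scheme.{u}}
    {a : A ⟶ C} {b : A ⟶ B} {a' : A' ⟶ C} {b' : A' ⟶ B} {q : C ⟶ D} {c : B ⟶ D} (h : IsPullback a b q c)
    (h' : IsPullback a' b' q c) (hb : P b') : P b := by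
  rw [← h.isoIsPullback_hom_snd _ _ h', P.cancel_left_of_respectsIso]
  exact hb

theorem prop_q0 (P : MorphismProperty Scheme.{u}) [IsZariskiLocalAtTarget P] (H : ∀ V : Scheme.{u}, P (lp V)) :
    P (q0.{u} N) := by
  refine IsZariskiLocalAtTarget.of_iSup_eq_top (P := P) (fun i : Fin (N + 1) => DD.{u} i) iSup_DD fun i => ?_
  obtain ⟨a, h, e⟩ := exists_eq_cls (DD.{u} i).ι i (Scheme.Opens.ι_preimage_self _)
  have h2 := isPullback_line a h
  rw [← e] at h2
  exact prop_of_isPullback P (isPullback_morphismRestrict (q0.{u} N) (DD i)).flip h2 (H _)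

instance smooth_q0 : SmoothOfRelativeDimension 1 (q0.{u} N) :=
  prop_q0 (@SmoothOfRelativeDimension 1) fun _ => inferInstance

/-- The canonical morphism is affine. -/
instance isAffineHom_q0 : IsAffineHom (q0.{u} N) := prop_q0 (@IsAffineHom) fun _ => inferInstance

end K275.PnCone
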