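import Groth.Agent.Fano.K275.DatRep
import Groth.Agent.Fano.K393.ObjChart

/-!
# The product of the universal family of a linear chart with a family of stable maps

`Un : K505.KonDef.Univ ℓ` the universal family of stable maps with a datum for the linear chart `ℓ`, over a chart of the stack
of prestable curves with `r + m` sections.

* `exists_product`: its product with every family `Y` of stable maps exists, smooth of relative dimension `m + 1` over `Y`;
* `hasProd`: the same in terms of `K393.ObjChart.HasProd`.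
-/

set_option autoImplicit false
set_option backward.isDefEq.respectTransparency false
set_option backward.isDefEq.respectTransparency.types false

universe u

open CategoryTheory CategoryTheory.Limits AlgebraicGeometry TopologicalSpace

namespace K275.ProdMain

open Groth.Agent K390.PnSec K188.LineDef K745.ConDef K505.KonDef K11.UnivKit K275.DatRep K655.MapPre
open W4swstmapratcurves K393.ObjChart K393.RelDimP

variable {k : Type u} [Field k] {r m n d e : ℕ} {G : LefPen.Form n k d} {c : CrvChart k (r + m)} {ℓ : LinChart c G e}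

/-- A morphism of the stack is determined by the morphism of families. -/
theorem mst_hom_ext {A B : (Mst G r e).obj} {f g : A ⟶ B} (h : f.hom = g.hom) : f = g :=
  ObjectProperty.hom_ext _ h

/-- The underlying family of curves of a family of stable maps of genus `0` is prestable. -/
theorem isPrestable (Y : (Mst G r e).obj) : CurvSt.IsPrestablePtdFam Y.obj.f Y.obj.sect Y.obj.sect_f 0 := by
  obtain ⟨⟨h1, h2, h3, h4⟩, -⟩ := Y.property
  exact ⟨h1, h2, h3, fun Ω _ _ t X i q hP => (h4 Ω t X i q hP).1⟩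

/-- The product, from a base change representing the data. -/
theorem exists_product_of (Un : Univ ℓ) (Y : (Mst G r e).obj) {P : MorphismProperty Scheme.{u}}
    (h : ∃ (W : Over (Spec (CommRingCat.of k))) (b : W ⟶ Y.obj.base) (D : Datum ℓ (bc Y.obj b)), P b.left ∧
      ∀ (Z' : Fam G r) (b' : Z' ⟶ Y.obj) (D' : Datum ℓ Z'), ∃! z : Z' ⟶ bc Y.obj b, z ≫ bcHom Y.obj b = b' ∧
        IsPull D' D z) :
    ∃ (Z : (Mst G r e).obj) (α : Z ⟶ Un.A) (β : Z ⟶ Y),
      (∀ (Z' : (Mst G r e).obj) (a : Z' ⟶ Un.A) (b : Z' ⟶ Y), ∃! z : Z' ⟶ Z, z ≫ α = a ∧ z ≫ β = b) ∧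
      P ((Mst G r e).p.map β).left := by
  obtain ⟨W, b, D, hsm, hu⟩ := h
  let Z : (Mst G r e).obj := ⟨bc Y.obj b, stable_cond _ _ _ _ _ _ (bcHom Y.obj b) Y.property⟩
  let β : Z ⟶ Y := ObjectProperty.homMk (bcHom Y.obj b)
  obtain ⟨α, hα, -⟩ := Un.univ Z D
  refine ⟨Z, α, β, ?_, hsm⟩
  intro Z' a b'
  obtain ⟨D', hD'⟩ := exists_pull a.hom Un.D
  obtain ⟨z, ⟨hz1, hz2⟩, hzu⟩ := hu Z'.obj b'.hom D'
  refine ⟨ObjectProperty.homMk z, ⟨(Un.univ Z' D').unique ?_ hD', mst_hom_ext hz1⟩, ?_⟩
  · exact IsPull.comp hz2 hα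
  · rintro w ⟨h1, h2⟩
    obtain ⟨D'', hD''⟩ := exists_pull w.hom D
    have h3 : IsPull D'' Un.D a.hom := by
      rw [← h1]
      exact IsPull.comp hD'' hα
    obtain rfl : D'' = D' := IsPull.unique h3 hD'
    exact mst_hom_ext (hzu w.hom ⟨congrArg (fun t : Z' ⟶ Y => t.hom) h2, hD''⟩)

/-- **The product of the universal family with a family of stable maps.** -/
theorem exists_product (Un : Univ ℓ) (Y : (Mst G r e).obj) : ∃ (Z : (Mst G r e).obj) (α : Z ⟶ Un.A) (β : Z ⟶ Y),
    (∀ (Z' : (Mst G r e).obj) (a : Z' ⟶ Un.A) (b : Z' ⟶ Y), ∃! z : Z' ⟶ Z, z ≫ α = a ∧ z ≫ β = b) ∧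
    SmoothOfRelativeDimension (m + 1) ((Mst G r e).p.map β).left :=
  exists_product_of Un Y (P := @SmoothOfRelativeDimension (m + 1)) (exists_datRep ℓ Y.obj (isPrestable Y))

/-- The product with a family over a scheme locally of finite type is quasi-compact, if the products of the chart of curves
with such families are. -/
theorem exists_product_qc (hc : QcProd c) (Un : Univ ℓ) (Y : (Mst G r e).obj) [LocallyOfFiniteType Y.obj.base.hom] :
    ∃ (Z : (Mst G r e).obj) (α : Z ⟶ Un.A) (β : Z ⟶ Y),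
      (∀ (Z' : (Mst G r e).obj) (a : Z' ⟶ Un.A) (b : Z' ⟶ Y), ∃! z : Z' ⟶ Z, z ≫ α = a ∧ z ≫ β = b) ∧
      SmoothOfRelativeDimension (m + 1) ((Mst G r e).p.map β).left ∧ QuasiCompact ((Mst G r e).p.map β).left :=
  exists_product_of Un Y (P := @SmoothOfRelativeDimension (m + 1) ⊓ @QuasiCompact)
    (exists_datRep_qc ℓ hc Y.obj (isPrestable Y))

/-- The universal family of a linear chart has products, smooth of relative dimension `m + 1`. -/
theorem hasProd (Un : Univ ℓ) : HasProd (SmRel (m + 1)) Un.A := by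
  intro Y t
  obtain ⟨Z, α, β, h1, h2⟩ := exists_product Un Y
  refine ⟨Y, 𝟙 Y, t, Z, α, β, ?_, ?_, h1, smRel_of _ h2⟩
  · rw [CategoryTheory.Functor.map_id]
    exact (inferInstance : Etale (𝟙 ((Mst G r e).p.obj Y).left))
  · rw [CategoryTheory.Functor.map_id]
    rfl

end K275.ProdMain
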