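import Groth.Agent.Fano.K275.ProdMain
import Groth.Agent.Fano.K393.ObjDim2

/-!
# Quasi-compactness of the products with the universal family of a linear chart

* `qcProd_of_isOpenImmersion`: if the products of the chart of curves with prestable families are open immersions, they are
  quasi-compact over schemes locally of finite type;
* `hasProdAt`: then the products of the universal family of a linear chart with families over such schemes are quasi-compact.
-/

set_option autoImplicit false
set_option backward.isDefEq.respectTransparency false
set_option backward.isDefEq.respectTransparency.types false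

universe u

open CategoryTheory CategoryTheory.Limits AlgebraicGeometry TopologicalSpace

namespace K275.ProdQc

open Groth.Agent K390.PnSec K188.LineDef K745.ConDef K505.KonDef K11.UnivKit K275.DatRep K655.MapPre K275.ProdMain
open W4swstmapratcurves K393.ObjChart K393.RelDimP K393.ObjDim2

variable {k : Type u} [Field k] {r m n d e : ℕ} {G : LefPen.Form n k d} {c : CrvChart k (r + m)} {ℓ : LinChart c G e}

/-- Products which are open immersions are quasi-compact over schemes locally of finite type. -/
theorem qcProd_of_isOpenImmersion
    (h : ∀ Y : CurvSt.PtFamObj (Spec (CommRingCat.of k)) (r + m), IsPre Y →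
      ∃ (Z : CurvSt.PtFamObj (Spec (CommRingCat.of k)) (r + m)) (α : Z ⟶ c.B) (β : Z ⟶ Y),
        (∀ (Z' : CurvSt.PtFamObj (Spec (CommRingCat.of k)) (r + m)) (a : Z' ⟶ c.B) (b : Z' ⟶ Y),
          ∃! z : Z' ⟶ Z, z ≫ α = a ∧ z ≫ β = b) ∧ IsOpenImmersion β.base.left) : QcProd c := by
  intro Y hY hft
  obtain ⟨Z, α, β, h1, h2⟩ := h Y hY
  have hn : IsLocallyNoetherian Y.base.left := LocallyOfFiniteType.isLocallyNoetherian Y.base.hom
  exact ⟨Z, α, β, h1, inferInstance, inferInstance⟩

/-- The products with families over schemes locally of finite type, smooth and quasi-compact. -/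
theorem hasProdAt (hc : QcProd c) (Un : Univ ℓ) (Y : (Mst G r e).obj) [LocallyOfFiniteType Y.obj.base.hom] :
    HasProdAt (SmRel (m + 1) ⊓ @QuasiCompact) Un.A Y := by
  obtain ⟨Z, α, β, h1, h2, h3⟩ := exists_product_qc hc Un Y
  exact HasProdAt.of_prod α β h1 ⟨smRel_of _ h2, h3⟩

end K275.ProdQc
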