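import Groth.Agent.Fano.K275.PnConeS
import Groth.Agent.StMod.K864.SchGlue

/-!
# Representability of classes of rows

* `RowClass T N`: a class of rows of `N + 1` functions without common zero on the schemes over `T`, stable under pullback and
  local, such that two members on the same scheme differ by a unit, and which has local sections near every point where it
  is not empty;
* `RowClass.exists_rep`: it is represented by a scheme smooth of relative dimension `1` over `T`.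
-/

set_option autoImplicit false
universe u
open CategoryTheory CategoryTheory.Limits AlgebraicGeometry TopologicalSpace

namespace K275.RowRep

open K390.PnSec Groth.Agent.Fdesc.LocGen K275.PnCone

/-- A pseudotorsor under the units, whose sections are rows of functions. -/
structure RowClass (T : Scheme.{u}) (N : ℕ) where
  /-- the members on a scheme over `T` -/
  mem : ∀ {T' : Scheme.{u}} (_ : T' ⟶ T), (Fin (N + 1) → Γ(T', ⊤)) → Prop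
  uni : ∀ {T' : Scheme.{u}} {g : T' ⟶ T} {φ : Fin (N + 1) → Γ(T', ⊤)}, mem g φ → Uni φ
  pull : ∀ {T' T'' : Scheme.{u}} {g : T' ⟶ T} {φ : Fin (N + 1) → Γ(T', ⊤)} (h : T'' ⟶ T'), mem g φ →
    mem (h ≫ g) (fun i => h.appTop (φ i))
  mul : ∀ {T' : Scheme.{u}} {g : T' ⟶ T} {φ : Fin (N + 1) → Γ(T', ⊤)} {w : Γ(T', ⊤)}, mem g φ → IsUnit w →
    mem g (fun i => w * φ i)
  unique : ∀ {T' : Scheme.{u}} {g : T' ⟶ T} {φ φ' : Fin (N + 1) → Γ(T', ⊤)}, mem g φ → mem g φ' →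
    ∃ w : Γ(T', ⊤), IsUnit w ∧ ∀ i, φ' i = w * φ i
  loc : ∀ {T' : Scheme.{u}} {g : T' ⟶ T} {φ : Fin (N + 1) → Γ(T', ⊤)},
    (∀ t : T', ∃ U : T'.Opens, t ∈ U ∧ mem (U.ι ≫ g) (fun i => U.ι.appTop (φ i))) → mem g φ
  isOpen : ∀ {T' : Scheme.{u}} {g : T' ⟶ T} {φ : Fin (N + 1) → Γ(T', ⊤)}, mem g φ → ∀ t : T', ∃ V : T.Opens,
    g t ∈ V ∧ ∃ ψ : Fin (N + 1) → Γ(V.toScheme, ⊤), mem V.ι ψ

variable {T : Scheme.{u}} {N : ℕ} (R : RowClass T N)

namespace RowClass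

/-- The open set where there are local sections. -/
def locus : T.Opens := ⨆ V : {V : T.Opens // ∃ ψ : Fin (N + 1) → Γ(V.toScheme, ⊤), R.mem V.ι ψ}, V.1

theorem le_locus {V : T.Opens} {ψ : Fin (N + 1) → Γ(V.toScheme, ⊤)} (h : R.mem V.ι ψ) : V ≤ R.locus :=
  le_iSup (fun V : {V : T.Opens // ∃ ψ : Fin (N + 1) → Γ(V.toScheme, ⊤), R.mem V.ι ψ} => V.1) ⟨V, ψ, h⟩

theorem exists_of_mem_locus {t : T} (ht : t ∈ R.locus) : ∃ (V : T.Opens) (ψ : Fin (N + 1) → Γ(V.toScheme, ⊤)),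
    t ∈ V ∧ R.mem V.ι ψ := by
  obtain ⟨⟨V, ψ, h⟩, hV⟩ := Opens.mem_iSup.mp ht
  exact ⟨V, ψ, hV, h⟩

theorem congr {T' : Scheme.{u}} {g g' : T' ⟶ T} {φ φ' : Fin (N + 1) → Γ(T', ⊤)} (h : R.mem g φ) (e : g = g')
    (e' : ∀ i, φ i = φ' i) : R.mem g' φ' := by
  obtain rfl := e
  obtain rfl : φ = φ' := funext e'
  exact h

/-- The morphism of the locus to projective space. -/
theorem exists_psi : ∃ ψ : R.locus.toScheme ⟶ CohB1.ProjSpace N Z.{u}, ∀ {T' : Scheme.{u}} (g : T' ⟶ R.locus.toScheme)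
    (φ : Fin (N + 1) → Γ(T', ⊤)) (h : R.mem (g ≫ R.locus.ι) φ), g ≫ ψ = cls φ (R.uni h) := by
  obtain ⟨ψ, hψ⟩ := K864.SchGlue.glue_of_opens (X := R.locus.toScheme) (Y := CohB1.ProjSpace N Z.{u})
    (fun U g => ∃ (φ : Fin (N + 1) → Γ(U.toScheme, ⊤)) (h : R.mem (U.ι ≫ R.locus.ι) φ), g = cls φ (R.uni h)) (by
      rintro U V hVU g ⟨φ, hφ, rfl⟩
      refine ⟨fun i => (Scheme.homOfLE _ hVU).appTop (φ i), R.congr (R.pull (Scheme.homOfLE _ hVU) hφ) ?_ (fun _ => rfl), ?_⟩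
      · rw [← Category.assoc, Scheme.homOfLE_ι]
      · exact comp_cls _ _ _) (by
      rintro U g g' ⟨φ, hφ, rfl⟩ ⟨φ', hφ', rfl⟩
      exact (cls_eq_iff _ _).mpr (R.unique hφ hφ')) (by
      intro x
      obtain ⟨V, ψ, hV, h⟩ := R.exists_of_mem_locus x.2
      have hr : Set.range ((R.locus.ι ⁻¹ᵁ V).ι ≫ R.locus.ι) ⊆ Set.range V.ι := by
        rw [Scheme.Opens.range_ι]
        rintro _ ⟨z, rfl⟩
        exact z.2
      have e : IsOpenImmersion.lift V.ι ((R.locus.ι ⁻¹ᵁ V).ι ≫ R.locus.ι) hr ≫ V.ι = (R.locus.ι ⁻¹ᵁ V).ι ≫ R.locus.ι :=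
        IsOpenImmersion.lift_fac _ _ _
      have h1 := R.pull (IsOpenImmersion.lift V.ι ((R.locus.ι ⁻¹ᵁ V).ι ≫ R.locus.ι) hr) h
      exact ⟨R.locus.ι ⁻¹ᵁ V, hV, _, _, R.congr h1 e (fun _ => rfl), rfl⟩)
  refine ⟨ψ, fun {T'} g φ h => ?_⟩
  refine K864.SchGlue.hom_ext_of_open _ _ fun t => ?_
  obtain ⟨V, φV, hV, h1⟩ := R.exists_of_mem_locus (g t).2
  let U : R.locus.toScheme.Opens := R.locus.ι ⁻¹ᵁ V
  have hr : Set.range (U.ι ≫ R.locus.ι) ⊆ Set.range V.ι := by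
    rw [Scheme.Opens.range_ι]
    rintro _ ⟨z, rfl⟩
    exact z.2
  have e : IsOpenImmersion.lift V.ι (U.ι ≫ R.locus.ι) hr ≫ V.ι = U.ι ≫ R.locus.ι := IsOpenImmersion.lift_fac _ _ _
  have h2 := R.congr (R.pull (IsOpenImmersion.lift V.ι (U.ι ≫ R.locus.ι) hr) h1) e (fun _ => rfl)
  have h3 := hψ U _ ⟨_, h2, rfl⟩
  have hr' : Set.range ((g ⁻¹ᵁ U).ι ≫ g) ⊆ Set.range U.ι := by
    rw [Scheme.Opens.range_ι]
    rintro _ ⟨z, rfl⟩
    exact z.2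
  have e' : IsOpenImmersion.lift U.ι ((g ⁻¹ᵁ U).ι ≫ g) hr' ≫ U.ι = (g ⁻¹ᵁ U).ι ≫ g := IsOpenImmersion.lift_fac _ _ _
  refine ⟨(g ⁻¹ᵁ U).toScheme, (g ⁻¹ᵁ U).ι, inferInstance, ⟨⟨t, hV⟩, rfl⟩, ?_⟩
  rw [← Category.assoc, ← e', Category.assoc, h3, comp_cls, comp_cls, cls_eq_iff]
  have h4 := R.pull (IsOpenImmersion.lift U.ι ((g ⁻¹ᵁ U).ι ≫ g) hr') h2
  have h5 := R.pull (g ⁻¹ᵁ U).ι h
  exact R.unique h4 (R.congr h5 (by rw [← Category.assoc, ← Category.assoc, e']) (fun _ => rfl))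

/-- A class of rows is represented by a smooth scheme. -/
theorem exists_rep : ∃ (W : Scheme.{u}) (π : W ⟶ T) (Φ : Fin (N + 1) → Γ(W, ⊤)), R.mem π Φ ∧
    SmoothOfRelativeDimension 1 π ∧ (∃ (π' : W ⟶ R.locus.toScheme), π' ≫ R.locus.ι = π ∧ IsAffineHom π') ∧
    ∀ {T' : Scheme.{u}} (g : T' ⟶ T) (φ : Fin (N + 1) → Γ(T', ⊤)), R.mem g φ →
      ∃! h : T' ⟶ W, h ≫ π = g ∧ ∀ i, h.appTop (Φ i) = φ i := by
  obtain ⟨ψ, hψ⟩ := R.exists_psi
  let W := pullback ψ (q0.{u} N)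
  let π' : W ⟶ R.locus.toScheme := pullback.fst ψ (q0.{u} N)
  let q : W ⟶ (OO.{u} N).toScheme := pullback.snd ψ (q0.{u} N)
  let Φ : Fin (N + 1) → Γ(W, ⊤) := fun i => q.appTop (cc i)
  have hst : MorphismProperty.IsStableUnderBaseChange (@SmoothOfRelativeDimension.{u} 1) :=
    smoothOfRelativeDimension_isStableUnderBaseChange 1
  have hsm : SmoothOfRelativeDimension 1 π' :=
    MorphismProperty.pullback_fst (P := @SmoothOfRelativeDimension 1) _ _ smooth_q0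
  have haf : IsAffineHom π' := MorphismProperty.pullback_fst (P := @IsAffineHom) _ _ isAffineHom_q0
  refine ⟨W, π' ≫ R.locus.ι, Φ, ?_, ?_, ⟨π', rfl, haf⟩, ?_⟩
  · refine R.loc fun w => ?_
    obtain ⟨V, φV, hV, h1⟩ := R.exists_of_mem_locus (π' w).2
    let U : R.locus.toScheme.Opens := R.locus.ι ⁻¹ᵁ V
    have hr : Set.range ((π' ⁻¹ᵁ U).ι ≫ π' ≫ R.locus.ι) ⊆ Set.range V.ι := by
      rw [Scheme.Opens.range_ι]
      rintro _ ⟨z, rfl⟩
      exact z.2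
    have e : IsOpenImmersion.lift V.ι ((π' ⁻¹ᵁ U).ι ≫ π' ≫ R.locus.ι) hr ≫ V.ι = (π' ⁻¹ᵁ U).ι ≫ π' ≫ R.locus.ι :=
      IsOpenImmersion.lift_fac _ _ _
    have h2 := R.congr (R.pull (IsOpenImmersion.lift V.ι ((π' ⁻¹ᵁ U).ι ≫ π' ≫ R.locus.ι) hr) h1) e (fun _ => rfl)
    refine ⟨π' ⁻¹ᵁ U, hV, ?_⟩
    have h3 := hψ ((π' ⁻¹ᵁ U).ι ≫ π') _ (R.congr h2 (Category.assoc _ _ _).symm (fun _ => rfl))
    have h4 : ((π' ⁻¹ᵁ U).ι ≫ q) ≫ q0 N = ((π' ⁻¹ᵁ U).ι ≫ π') ≫ ψ := by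
      rw [Category.assoc, Category.assoc]
      congr 1
      exact pullback.condition.symm
    rw [h3, comp_q0] at h4
    obtain ⟨w, hw, hw'⟩ := (cls_eq_iff _ _).mp h4.symm
    exact R.congr (R.mul h2 hw) rfl (fun i => (hw' i).symm)
  · have h2 : SmoothOfRelativeDimension 0 R.locus.ι := inferInstance
    exact (inferInstance : SmoothOfRelativeDimension (1 + 0) (π' ≫ R.locus.ι))
  · intro T' g φ hφ
    have hr : Set.range g ⊆ Set.range R.locus.ι := by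
      rw [Scheme.Opens.range_ι]
      rintro _ ⟨t, rfl⟩
      obtain ⟨V, hV, ψ', h⟩ := R.isOpen hφ t
      exact R.le_locus h hV
    let g' : T' ⟶ R.locus.toScheme := IsOpenImmersion.lift R.locus.ι g hr
    have hg' : g' ≫ R.locus.ι = g := IsOpenImmersion.lift_fac _ _ _
    have h1 : g' ≫ ψ = toO φ (R.uni hφ) ≫ q0 N := by
      rw [toO_q0]
      exact hψ g' φ (R.congr hφ hg'.symm (fun _ => rfl))
    let h := pullback.lift g' (toO φ (R.uni hφ)) h1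
    have hh1 : h ≫ π' = g' := pullback.lift_fst _ _ _
    have hh2 : h ≫ q = toO φ (R.uni hφ) := pullback.lift_snd _ _ _
    have hcc : ∀ (l : T' ⟶ W) (i : Fin (N + 1)), l.appTop (Φ i) = (l ≫ q).appTop (cc i) := fun l i => rfl
    refine ⟨h, ⟨by rw [← Category.assoc, hh1, hg'], fun i => ?_⟩, ?_⟩
    · rw [hcc, hh2, toO_cc]
    · rintro l ⟨hl1, hl2⟩
      refine pullback.hom_ext ?_ ?_
      · rw [← cancel_mono R.locus.ι]
        change (l ≫ π') ≫ R.locus.ι = (h ≫ π') ≫ R.locus.ι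
        rw [hh1, hg', Category.assoc, hl1]
      · refine hom_ext fun i => ?_
        change (l ≫ q).appTop (cc i) = (h ≫ q).appTop (cc i)
        rw [hh2, toO_cc, ← hcc, hl2]

end RowClass

end K275.RowRep
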