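import Groth.Agent.CurvSt.K333.FamTw

/-!
# Adding sections to a prestable family of curves

* `allSec f σ hσ v s hs`: the sections of the base change of `f : C ⟶ T` along `v`, from the sections `σ` of `f` and from
  morphisms `s` to `C` over `v`;
* `exists_secs`: the functor of the `m`-tuples `s` such that the family with all these sections is prestable is represented
  by a scheme smooth of relative dimension `m`.
-/

set_option autoImplicit false

universe u

open CategoryTheory CategoryTheory.Limits AlgebraicGeometry TopologicalSpace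

namespace K275.SecRep

open CurvSt K901.SchPre K901.SchLoc K901.Loci

/-! ### base change of marked points -/

section bc

variable {C T C' T' : Scheme.{u}} {n : ℕ} {f : C ⟶ T} {f' : C' ⟶ T'} {a : C' ⟶ C} {b : T' ⟶ T}
  {σ : Fin n → (T ⟶ C)} {hσ : ∀ i, σ i ≫ f = 𝟙 T} {σ' : Fin n → (T' ⟶ C')} {hσ' : ∀ i, σ' i ≫ f' = 𝟙 T'}

theorem markedPt_bc (sq : IsPullback a f' f b) (h : ∀ j, σ' j ≫ a = b ≫ σ j) {Ω : Type u} [Field Ω]
    {t : Spec (CommRingCat.of Ω) ⟶ T'} {X : Scheme.{u}} {i : X ⟶ C'} {q : X ⟶ Spec (CommRingCat.of Ω)}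
    (hP : IsPullback i q f' t) (j : Fin n) :
    markedPt σ hσ (hP.paste_horiz sq) j = markedPt σ' hσ' hP j := by
  have h1 : hP.lift (t ≫ σ' j) (𝟙 _) (by rw [Category.assoc, hσ', Category.comp_id, Category.id_comp]) =
      (hP.paste_horiz sq).lift ((t ≫ b) ≫ σ j) (𝟙 _) (by
        rw [Category.assoc, hσ, Category.comp_id, Category.id_comp]) := by
    apply (hP.paste_horiz sq).hom_ext
    · rw [IsPullback.lift_fst, ← Category.assoc, hP.lift_fst, Category.assoc, h, Category.assoc]
    · rw [hP.lift_snd, IsPullback.lift_snd]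
  exact congrArg (fun z => z.base (IsLocalRing.closedPoint Ω)) h1.symm

theorem isPrestablePtdFam_bc {g : ℕ} (h : IsPrestablePtdFam f σ hσ g) (sq : IsPullback a f' f b)
    (hs : ∀ j, σ' j ≫ a = b ≫ σ j) : IsPrestablePtdFam f' σ' hσ' g := by
  obtain ⟨h1, h2, h3, h4⟩ := h
  refine ⟨MorphismProperty.of_isPullback sq h1, MorphismProperty.of_isPullback sq h2,
    MorphismProperty.of_isPullback sq h3, fun Ω _ _ t X i q hP => ?_⟩
  have h5 := h4 Ω _ X _ q (hP.paste_horiz sq)
  have h6 : markedPt σ hσ (hP.paste_horiz sq) = markedPt σ' hσ' hP := funext fun j => markedPt_bc sq hs hP j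
  rwa [h6] at h5

end bc

section loc

variable {C T : Scheme.{u}} {n : ℕ} {f : C ⟶ T} {σ : Fin n → (T ⟶ C)} {hσ : ∀ i, σ i ≫ f = 𝟙 T} {g : ℕ}

theorem mem_of_isPrestablePtdFam (h : IsPrestablePtdFam f σ hσ g) (s : T) :
    s ∈ Loc (PreProp n g) f σ hσ := fun Ω _ _ t _ X i q hP => h.2.2.2 Ω t X i q hP

theorem mem_inter_of_isPrestablePtdFam (h : IsPrestablePtdFam f σ hσ g) (s : T) :
    s ∈ GenSet f g ∩ {s : T | Function.Injective fun j => σ j s} ∩ {s : T | ∀ j, SmoothAt f (σ j s)} := by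
  obtain ⟨h1, h2, h3, -⟩ := id h
  rw [← loc_prestable f σ hσ]
  exact mem_of_isPrestablePtdFam h s

theorem smoothAt_of_isPrestablePtdFam (h : IsPrestablePtdFam f σ hσ g) (j : Fin n) (s : T) : SmoothAt f (σ j s) :=
  (mem_inter_of_isPrestablePtdFam h s).2 j

theorem isNodalFamily_of_isPrestablePtdFam (h : IsPrestablePtdFam f σ hσ g) : Curv2.IsNodalFamily f :=
  (isNodalFamily_iff f).2 fun x => ((mem_inter_of_isPrestablePtdFam h (f x)).1.1.1.1 : f x ∈ NodSet f) x rfl

/-- The open part of the total space where the family is smooth. -/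
def smO (f : C ⟶ T) [Flat f] [LocallyOfFinitePresentation f] : C.Opens :=
  ⟨{x | SmoothAt f x}, locusProp_smooth.isOpen f⟩

theorem smooth_smO [Flat f] [LocallyOfFinitePresentation f] (h : IsPrestablePtdFam f σ hσ g) :
    SmoothOfRelativeDimension 1 ((smO f).ι ≫ f) :=
  (K898.SmoothRel.smoothOfRelativeDimension_iff 1 _).2 fun x =>
    ⟨(locusProp_smooth.source (smO f).ι f x).2 x.2,
      (K616.DimInv.fibreDimAt_comp_of_etale (smO f).ι f x).trans
        (K333.FamTw.fibreDimAt_eq f (isNodalFamily_of_isPrestablePtdFam h) _)⟩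

end loc

/-! ### fibre powers -/

theorem exists_power_qc {Z H : Scheme.{u}} (q : Z ⟶ H) (hq : SmoothOfRelativeDimension 1 q) (n : ℕ) :
    ∃ (W : Scheme.{u}) (p : W ⟶ H) (π : Fin n → (W ⟶ Z)), SmoothOfRelativeDimension n p ∧
      (QuasiCompact q → QuasiCompact p) ∧ (∀ k, π k ≫ q = p) ∧
      ∀ {T : Scheme.{u}} (g : T ⟶ H) (s : Fin n → (T ⟶ Z)), (∀ k, s k ≫ q = g) →
        ∃! w : T ⟶ W, w ≫ p = g ∧ ∀ k, w ≫ π k = s k := by
  induction n with
  | zero =>
    refine ⟨H, 𝟙 H, Fin.elim0, inferInstance, fun _ => inferInstance, fun k => k.elim0, fun {T} g s hs =>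
      ⟨g, ⟨Category.comp_id g, fun k => k.elim0⟩, ?_⟩⟩
    rintro w ⟨h, -⟩
    rwa [Category.comp_id] at h
  | succ n ih =>
    obtain ⟨W, p, π, hp, hqc, hπ, hu⟩ := ih
    have hst : MorphismProperty.IsStableUnderBaseChange (@SmoothOfRelativeDimension.{u} 1) :=
      smoothOfRelativeDimension_isStableUnderBaseChange 1
    have h1 : SmoothOfRelativeDimension 1 (pullback.fst p q) :=
      MorphismProperty.pullback_fst (P := @SmoothOfRelativeDimension 1) _ _ hq
    refine ⟨pullback p q, pullback.fst p q ≫ p, Fin.cons (pullback.snd p q) (fun k => pullback.fst p q ≫ π k),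
      ?_, ?_, ?_, ?_⟩
    · have h2 : SmoothOfRelativeDimension (1 + n) (pullback.fst p q ≫ p) := inferInstance
      rwa [add_comm] at h2
    · intro hq'
      have h2 := hqc hq'
      infer_instance
    · intro k
      refine Fin.cases ?_ (fun k => ?_) k
      · exact pullback.condition.symm
      · change (pullback.fst p q ≫ π k) ≫ q = _
        rw [Category.assoc, hπ]
    · intro T g s hs
      obtain ⟨w, ⟨hw, hw'⟩, hwu⟩ := hu g (fun k => s k.succ) (fun k => hs _)
      refine ⟨pullback.lift w (s 0) (by rw [hw, hs]), ⟨?_, ?_⟩, ?_⟩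
      · rw [pullback.lift_fst_assoc, hw]
      · intro k
        refine Fin.cases ?_ (fun k => ?_) k
        · exact pullback.lift_snd _ _ _
        · change _ ≫ pullback.fst p q ≫ π k = _
          rw [pullback.lift_fst_assoc, hw']
      · rintro w' ⟨h1, h2⟩
        refine pullback.hom_ext ?_ ?_
        · rw [pullback.lift_fst]
          refine hwu _ ⟨?_, fun k => ?_⟩
          · rw [Category.assoc, h1]
          · rw [Category.assoc]
            exact h2 k.succ
        · rw [pullback.lift_snd]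
          exact h2 0

theorem exists_power {Z H : Scheme.{u}} (q : Z ⟶ H) (hq : SmoothOfRelativeDimension 1 q) (n : ℕ) :
    ∃ (W : Scheme.{u}) (p : W ⟶ H) (π : Fin n → (W ⟶ Z)), SmoothOfRelativeDimension n p ∧ (∀ k, π k ≫ q = p) ∧
      ∀ {T : Scheme.{u}} (g : T ⟶ H) (s : Fin n → (T ⟶ Z)), (∀ k, s k ≫ q = g) →
        ∃! w : T ⟶ W, w ≫ p = g ∧ ∀ k, w ≫ π k = s k := by
  obtain ⟨W, p, π, h1, -, h2⟩ := exists_power_qc q hq n
  exact ⟨W, p, π, h1, h2⟩

/-! ### all the sections -/

section secs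

variable {C T : Scheme.{u}} {r : ℕ} (f : C ⟶ T) (σ : Fin r → (T ⟶ C)) (hσ : ∀ i, σ i ≫ f = 𝟙 T) {g : ℕ}

section

variable {V : Scheme.{u}} (v : V ⟶ T) {m : ℕ} (s : Fin m → (V ⟶ C)) (hs : ∀ k, s k ≫ f = v)

/-- The old sections. -/
noncomputable def oldSec (i : Fin r) : V ⟶ pullback f v :=
  pullback.lift (v ≫ σ i) (𝟙 V) (by rw [Category.assoc, hσ, Category.comp_id, Category.id_comp])

/-- The new sections. -/
noncomputable def newSec (k : Fin m) : V ⟶ pullback f v :=
  pullback.lift (s k) (𝟙 V) (by rw [hs, Category.id_comp])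

/-- All the sections. -/
noncomputable def allSec : Fin (r + m) → (V ⟶ pullback f v) :=
  Fin.addCases (oldSec f σ hσ v) (newSec f v s hs)

theorem allSec_castAdd (i : Fin r) : allSec f σ hσ v s hs (Fin.castAdd m i) = oldSec f σ hσ v i :=
  Fin.addCases_left _

theorem allSec_natAdd (k : Fin m) : allSec f σ hσ v s hs (Fin.natAdd r k) = newSec f v s hs k :=
  Fin.addCases_right _

theorem allSec_snd (j : Fin (r + m)) : allSec f σ hσ v s hs j ≫ pullback.snd f v = 𝟙 V := by
  refine Fin.addCases (fun i => ?_) (fun k => ?_) j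
  · rw [allSec_castAdd]; exact pullback.lift_snd _ _ _
  · rw [allSec_natAdd]; exact pullback.lift_snd _ _ _

/-- The family with all the sections is prestable. -/
def Pre (g : ℕ) : Prop := IsPrestablePtdFam (pullback.snd f v) (allSec f σ hσ v s hs) (allSec_snd f σ hσ v s hs) g

end

section map

variable {V V' : Scheme.{u}} (w : V' ⟶ V) {v : V ⟶ T} {v' : V' ⟶ T} (hw : w ≫ v = v')

/-- The morphism of the base changes. -/
noncomputable def pm : pullback f v' ⟶ pullback f v :=
  pullback.lift (pullback.fst f v') (pullback.snd f v' ≫ w) (by rw [pullback.condition, Category.assoc, hw])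

theorem isPullback_pm : IsPullback (pm f w hw) (pullback.snd f v') (pullback.snd f v) w := by
  refine IsPullback.of_right ?_ (pullback.lift_snd _ _ _) (IsPullback.of_hasPullback f v)
  rw [pm, pullback.lift_fst, hw]
  exact IsPullback.of_hasPullback f v'

theorem allSec_pm {m : ℕ} {s : Fin m → (V ⟶ C)} {hs : ∀ k, s k ≫ f = v} {s' : Fin m → (V' ⟶ C)}
    {hs' : ∀ k, s' k ≫ f = v'} (h : ∀ k, w ≫ s k = s' k) (j : Fin (r + m)) :
    allSec f σ hσ v' s' hs' j ≫ pm f w hw = w ≫ allSec f σ hσ v s hs j := by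
  apply pullback.hom_ext
  · rw [pm, Category.assoc, pullback.lift_fst, Category.assoc]
    refine Fin.addCases (fun i => ?_) (fun k => ?_) j
    · rw [allSec_castAdd, allSec_castAdd, oldSec, oldSec, pullback.lift_fst, pullback.lift_fst, ← Category.assoc, hw]
    · rw [allSec_natAdd, allSec_natAdd, newSec, newSec, pullback.lift_fst, pullback.lift_fst, h]
  · rw [pm, Category.assoc, pullback.lift_snd, Category.assoc, allSec_snd, ← Category.assoc, allSec_snd,
      Category.id_comp, Category.comp_id]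

include hw in
theorem Pre.comp {m : ℕ} {s : Fin m → (V ⟶ C)} {hs : ∀ k, s k ≫ f = v} {s' : Fin m → (V' ⟶ C)}
    {hs' : ∀ k, s' k ≫ f = v'} (hp : Pre f σ hσ v s hs g) (h : ∀ k, w ≫ s k = s' k) : Pre f σ hσ v' s' hs' g :=
  isPrestablePtdFam_bc hp (isPullback_pm f w hw) (allSec_pm f σ hσ w hw h)

end map

/-- The functor of the tuples of sections such that the family with all sections is prestable is representable. -/
theorem exists_secs_qc (hpre : IsPrestablePtdFam f σ hσ g) (m : ℕ) :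
    ∃ (W : Scheme.{u}) (p : W ⟶ T) (y : Fin m → (W ⟶ C)) (hy : ∀ k, y k ≫ f = p), SmoothOfRelativeDimension m p ∧
      (IsLocallyNoetherian T → QuasiCompact p) ∧ Pre f σ hσ p y hy g ∧
      ∀ {V : Scheme.{u}} (v : V ⟶ T) (s : Fin m → (V ⟶ C)) (hs : ∀ k, s k ≫ f = v), Pre f σ hσ v s hs g →
        ∃! w : V ⟶ W, w ≫ p = v ∧ ∀ k, w ≫ y k = s k := by
  obtain ⟨hfl, hpr, hfp, -⟩ := id hpre
  obtain ⟨P, p, π, hp, hqc, hπ, hu⟩ := exists_power_qc ((smO f).ι ≫ f) (smooth_smO hpre) m
  let y' : Fin m → (P ⟶ C) := fun k => π k ≫ (smO f).ι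
  have hy' : ∀ k, y' k ≫ f = p := fun k => by rw [Category.assoc, hπ]
  let τ := allSec f σ hσ p y' hy'
  have hτ : ∀ j, τ j ≫ pullback.snd f p = 𝟙 P := allSec_snd f σ hσ p y' hy'
  let W : P.Opens := ⟨Loc (PreProp (r + m) g) (pullback.snd f p) τ hτ, isOpen_prestable _ _ _ g⟩
  have hcomp : ∀ (V : Scheme.{u}) (w : V ⟶ P), (∀ x, w x ∈ W) → ∀ (v : V ⟶ T) (s : Fin m → (V ⟶ C))
      (hs : ∀ k, s k ≫ f = v), w ≫ p = v → (∀ k, w ≫ y' k = s k) → Pre f σ hσ v s hs g := by
    intro V w hw v s hs hwp hws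
    refine ⟨inferInstance, inferInstance, inferInstance, fun Ω _ _ t X i q hP => ?_⟩
    have sq := isPullback_pm f w hwp
    have h1 := hw (t.base (IsLocalRing.closedPoint Ω)) Ω (t ≫ w) rfl X (i ≫ pm f w hwp) q (hP.paste_horiz sq)
    have h2 : markedPt τ hτ (hP.paste_horiz sq) = markedPt (allSec f σ hσ v s hs) (allSec_snd f σ hσ v s hs) hP :=
      funext fun j => markedPt_bc sq (allSec_pm f σ hσ w hwp hws) hP j
    have h3 : StMap.IsPrestablePtd Ω X q g (markedPt τ hτ (hP.paste_horiz sq)) := h1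
    rwa [h2] at h3
  refine ⟨W.toScheme, W.ι ≫ p, fun k => W.ι ≫ y' k, fun k => by rw [Category.assoc, hy'], ?_, ?_, ?_, ?_⟩
  · have h2 : SmoothOfRelativeDimension 0 W.ι := inferInstance
    have h3 : SmoothOfRelativeDimension (0 + m) (W.ι ≫ p) := inferInstance
    rwa [zero_add] at h3
  · intro hT
    have h1 : IsLocallyNoetherian C := LocallyOfFiniteType.isLocallyNoetherian f
    have h2 : QuasiCompact ((smO f).ι ≫ f) := inferInstance
    have h3 := hqc h2
    have h4 : Smooth p := SmoothOfRelativeDimension.smooth m p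
    have h5 : IsLocallyNoetherian P := LocallyOfFiniteType.isLocallyNoetherian p
    infer_instance
  · exact hcomp _ W.ι (fun x => x.2) _ _ _ rfl fun k => rfl
  · intro V v s hs hV
    have hU : ∀ k, Set.range (s k) ⊆ Set.range (smO f).ι := by
      rintro k _ ⟨x, rfl⟩
      rw [Scheme.Opens.range_ι]
      have h1 := smoothAt_of_isPrestablePtdFam hV (Fin.natAdd r k) x
      rw [locusProp_smooth.baseChange f _ _ v (IsPullback.of_hasPullback f v), allSec_natAdd] at h1
      have h2 : (newSec f v s hs k ≫ pullback.fst f v) = s k := pullback.lift_fst _ _ _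
      have h3 : pullback.fst f v (newSec f v s hs k x) = s k x := by
        rw [← Scheme.Hom.comp_apply, h2]
      rw [h3] at h1
      exact h1
    obtain ⟨w, ⟨hw1, hw2⟩, hwu⟩ := hu v (fun k => IsOpenImmersion.lift (smO f).ι (s k) (hU k)) (fun k => by
      rw [← Category.assoc, IsOpenImmersion.lift_fac, hs])
    have hwy : ∀ k, w ≫ y' k = s k := fun k => by
      change w ≫ π k ≫ (smO f).ι = s k
      rw [← Category.assoc, hw2, IsOpenImmersion.lift_fac]
    have hW : ∀ x, w x ∈ W := by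
      intro x
      have sq := isPullback_pm f w hw1
      obtain ⟨Ω, _, _, t, ht⟩ := K901.GeomLoc.exists_geomPt x
      have hP := IsPullback.of_hasPullback (pullback.snd f v) t
      have h1 := hV.2.2.2 Ω t _ _ _ hP
      have h2 : markedPt τ hτ (hP.paste_horiz sq) = markedPt (allSec f σ hσ v s hs) (allSec_snd f σ hσ v s hs) hP :=
        funext fun j => markedPt_bc sq (allSec_pm f σ hσ w hw1 hwy) hP j
      rw [← h2, isPrestablePtd_iff, ← loc_prestable (pullback.snd f p) τ hτ] at h1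
      have h3 : (t ≫ w).base (IsLocalRing.closedPoint Ω) = w x := by
        rw [← ht]
        rfl
      rw [h3] at h1
      exact h1
    have hr : Set.range w ⊆ Set.range W.ι := by
      rintro _ ⟨x, rfl⟩
      rw [Scheme.Opens.range_ι]
      exact hW x
    refine ⟨IsOpenImmersion.lift W.ι w hr, ⟨?_, fun k => ?_⟩, ?_⟩
    · rw [← Category.assoc, IsOpenImmersion.lift_fac, hw1]
    · rw [← Category.assoc, IsOpenImmersion.lift_fac, hwy]
    · rintro w' ⟨h1, h2⟩
      rw [← cancel_mono W.ι, IsOpenImmersion.lift_fac]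
      refine hwu _ ⟨by rw [Category.assoc, h1], fun k => ?_⟩
      rw [← cancel_mono (smO f).ι, IsOpenImmersion.lift_fac, Category.assoc, Category.assoc, ← h2 k]

/-- The functor of the tuples of sections such that the family with all sections is prestable is representable. -/
theorem exists_secs (hpre : IsPrestablePtdFam f σ hσ g) (m : ℕ) :
    ∃ (W : Scheme.{u}) (p : W ⟶ T) (y : Fin m → (W ⟶ C)) (hy : ∀ k, y k ≫ f = p), SmoothOfRelativeDimension m p ∧
      Pre f σ hσ p y hy g ∧
      ∀ {V : Scheme.{u}} (v : V ⟶ T) (s : Fin m → (V ⟶ C)) (hs : ∀ k, s k ≫ f = v), Pre f σ hσ v s hs g →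
        ∃! w : V ⟶ W, w ≫ p = v ∧ ∀ k, w ≫ y k = s k := by
  obtain ⟨W, p, y, hy, h1, -, h2⟩ := exists_secs_qc f σ hσ hpre m
  exact ⟨W, p, y, hy, h1, h2⟩

end secs

end K275.SecRep
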