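import Groth.Agent.Fano.K275.NearIso
import Groth.Agent.Fano.K275.RowRep
import Groth.Agent.Fano.K275.SecRep
import Groth.Agent.Fano.K11.UnivKit
import Groth.Agent.S0981
import Groth.Agent.Fga.GenIso
import Groth.Agent.CurvSt.K901.GeomLoc

/-!
# The matrices of a morphism from a prestable curve to projective space

For a linear chart `ℓ` over the chart `c` of the stack of prestable curves of genus zero, a cartesian square of `f : C ⟶ T`
over `c.f`, and a morphism `μ : C ⟶ P^n`: the matrices `φ` on schemes over `T` for which the sections `Σ_j φ_{l,j} ε_j` define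
`μ` form a class of rows (`K275.RowRep.RowClass`), and are represented by a smooth scheme of relative dimension `1`.

* `surj`, `isIso_app`: cartesian squares over `c.f`;
* `Gv`: the sections with matrix `φ` define `μ`; `Gv.comp`;
* `Gv.smul`, `Gv.unique`, `Gv.uni`, `Gv.loc`, `Gv.isOpen`.
-/

set_option autoImplicit false

universe u

open CategoryTheory CategoryTheory.Limits AlgebraicGeometry TopologicalSpace

namespace K275.RowTors

open Groth.Agent Groth.Agent.Fdesc.LocGen K390.PnSec Groth.Agent.Dix.ProjProper K188.LineDef K745.ConDef K505.KonDef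
open K837.StPull K11.UnivKit K275.PnCone K275.RowRep Groth.Agent.Ega2.H295.PnUniq Groth.Agent.Ega2.H295.PnCoord

/-! ### automorphisms of invertible modules -/

section Aut

variable {X : Scheme.{u}}

/-- An endomorphism of an invertible module is the multiplication by a function. -/
theorem exists_fun_of_hom {L : X.Modules} (hL : PicF.IsInvertible L) (α : L ⟶ L) :
    ∃ a : Γ(X, ⊤), ∀ (U : X.Opens) (s : Γ(L, U)), α.app U s = ores (le_top : U ≤ ⊤) a • s := by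
  rw [isInvertible_iff] at hL
  choose U e hxU he using hL
  choose a ha using fun x => (he x).exists_eq (α.app (U x) (e x))
  have hcov : (⊤ : X.Opens) ≤ ⨆ x : X, U x := fun x _ => Opens.mem_iSup.2 ⟨x, hxU x⟩
  have hkey : ∀ (x : X) (W : X.Opens) (hW : W ≤ U x) (s : Γ(L, W)), α.app W s = ores hW (a x) • s := by
    intro x W hW s
    obtain ⟨c, hc⟩ := ((he x).res hW).exists_eq s
    have h1 := congrArg (res L hW) (ha x)
    rw [← app_res, res_smul] at h1
    rw [hc, Scheme.Modules.Hom.app_smul, h1, smul_smul, smul_smul, mul_comm]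
  obtain ⟨A, hA⟩ := ores_glue (X := X) U (fun x => le_top) hcov a (by
    intro x y
    refine ((he x).res (inf_le_left : U x ⊓ U y ≤ U x)).ext ?_
    rw [← hkey x, ← hkey y])
  refine ⟨A, fun W s => ?_⟩
  refine res_ext L (fun x : X => W ⊓ U x) (fun x => inf_le_left) ?_ fun x => ?_
  · intro x hx
    exact Opens.mem_iSup.2 ⟨x, hx, hxU x⟩
  · rw [← app_res, hkey x _ inf_le_right, res_smul, ← hA x, ores_ores, ores_ores]

/-- An automorphism of an invertible module is the multiplication by an invertible function. -/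
theorem exists_unit_of_iso {L : X.Modules} (hL : PicF.IsInvertible L) (α : L ≅ L) :
    ∃ a : Γ(X, ⊤), IsUnit a ∧ ∀ s : Γ(L, ⊤), α.hom.app ⊤ s = a • s := by
  obtain ⟨a, ha⟩ := exists_fun_of_hom hL α.hom
  obtain ⟨b, hb⟩ := exists_fun_of_hom hL α.inv
  refine ⟨a, ?_, fun s => ?_⟩
  · refine IsUnit.of_mul_eq_one b ?_
    have hL' := hL
    rw [isInvertible_iff] at hL'
    choose U e hxU he using hL'
    refine ores_ext U (fun x => le_top) (fun x _ => Opens.mem_iSup.2 ⟨x, hxU x⟩) fun x => (he x).ext ?_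
    have h1 : α.hom.app (U x) (α.inv.app (U x) (e x)) = e x := by
      have h3 := α.inv_hom_id
      exact congr(($(h3).app (U x)) (e x))
    rw [map_mul, map_one, one_smul, mul_smul, ← hb, ← ha, h1]
  · rw [ha, ores_refl]

/-- Multiplication by a unit. -/
theorem exists_mulIso (M : X.Modules) (v : Γ(X, ⊤)) (hv : IsUnit v) :
    ∃ e : M ≅ M, ∀ s : Γ(M, ⊤), e.hom.app ⊤ s = v • s := by
  obtain ⟨v, rfl⟩ := hv
  have key : ∀ a b : Γ(X, ⊤), a * b = 1 → Fga.GenIso.mulHom M a ≫ Fga.GenIso.mulHom M b = 𝟙 M := by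
    intro a b hab
    apply Scheme.Modules.hom_ext
    intro U
    ext m
    change (Fga.GenIso.mulHom M b).app U ((Fga.GenIso.mulHom M a).app U m) = m
    rw [Fga.GenIso.mulHom_app, Fga.GenIso.mulHom_app, smul_smul, ← map_mul, mul_comm b a, hab, map_one,
      one_smul]
  refine ⟨⟨Fga.GenIso.mulHom M v, Fga.GenIso.mulHom M (v⁻¹ : Γ(X, ⊤)ˣ), key _ _ (by simp),
    key _ _ (by simp)⟩, fun s => ?_⟩
  change (Fga.GenIso.mulHom M v).app ⊤ s = _
  rw [Fga.GenIso.mulHom_app, ores_refl]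

theorem givenBy_smul {n : ℕ} {R : Type u} [CommRing R] {r : X ⟶ CohB1.ProjSpace n R} {L : X.Modules}
    {s : Fin (n + 1) → Γ(L, ⊤)} (h : GivenBy r L s) {v : Γ(X, ⊤)} (hv : IsUnit v) : GivenBy r L (fun i => v • s i) := by
  obtain ⟨e, he⟩ := exists_mulIso L v hv
  have h1 := h.of_iso e
  rwa [show (fun i => e.hom.app ⊤ (s i)) = fun i => v • s i from funext fun i => he _] at h1

theorem exists_unit_of_givenBy {n : ℕ} {R : Type u} [CommRing R] {r : X ⟶ CohB1.ProjSpace n R} {L : X.Modules}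
    (hL : PicF.IsInvertible L) {s s' : Fin (n + 1) → Γ(L, ⊤)} (h : GivenBy r L s) (h' : GivenBy r L s') :
    ∃ a : Γ(X, ⊤), IsUnit a ∧ ∀ i, s' i = a • s i := by
  obtain ⟨e, he⟩ := h.exists_iso h'
  obtain ⟨a, ha, ha'⟩ := exists_unit_of_iso hL e
  exact ⟨a, ha, fun i => (he i).symm.trans (ha' _)⟩

end Aut

/-! ### cartesian squares over the chart -/

section Sq

variable {k : Type u} [Field k] {N : ℕ} {B : CurvSt.PtFamObj (Spec (CommRingCat.of k)) N} (hB : IsPre B)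
  {T C : Scheme.{u}} {t : C ⟶ B.C} {f : C ⟶ T} {b : T ⟶ B.base.left} (hP : IsPullback t f B.f b)

include hB hP

theorem flat : Flat f := MorphismProperty.of_isPullback hP hB.1

theorem proper : IsProper f := MorphismProperty.of_isPullback hP hB.2.1

theorem lfp : LocallyOfFinitePresentation f := MorphismProperty.of_isPullback hP hB.2.2.1

theorem exists_pre {Ω : Type u} [Field Ω] [IsAlgClosed Ω] (x : Spec (CommRingCat.of Ω) ⟶ T) {X : Scheme.{u}}
    {i : X ⟶ C} {q : X ⟶ Spec (CommRingCat.of Ω)} (H : IsPullback i q f x) :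
    ∃ y : Fin N → X, StMap.IsPrestablePtd Ω X q 0 y :=
  ⟨_, hB.2.2.2 Ω (x ≫ b) X (i ≫ t) q (H.paste_horiz hP)⟩

theorem surj (s : T) : ∃ y : C, f y = s := by
  obtain ⟨Ω, _, _, x, hx⟩ := K901.GeomLoc.exists_geomPt s
  obtain ⟨y, hy⟩ := exists_pre hB hP x (IsPullback.of_hasPullback f x)
  have := hy.2.1
  obtain ⟨z⟩ : Nonempty ↥(pullback f x) := inferInstance
  refine ⟨pullback.fst f x z, ?_⟩
  rw [← Scheme.Hom.comp_apply, pullback.condition, Scheme.Hom.comp_apply,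
    Subsingleton.elim (pullback.snd f x z) (IsLocalRing.closedPoint Ω)]
  exact hx

theorem isIso_app (V : T.Opens) : IsIso (f.app V) := by
  have := flat hB hP
  have := proper hB hP
  have := lfp hB hP
  refine Groth.Agent.S0981.result f (fun Ω _ _ x => ?_) V
  obtain ⟨y, hy⟩ := exists_pre hB hP x (IsPullback.of_hasPullback f x)
  have := hy.1
  exact ⟨K312.NodeFin.isReduced_of_nodal (pullback.snd f x) hy.2.2.2.1.1, hy.2.1⟩

theorem bijective_appTop : Function.Bijective f.appTop := by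
  have := isIso_app hB hP ⊤
  exact ConcreteCategory.bijective_of_isIso (f.app ⊤)

end Sq

/-! ### the matrices -/

section Gv

variable {k : Type u} [Field k] {r m n d e : ℕ} {G : LefPen.Form n k d} {c : CrvChart k (r + m)} (ℓ : LinChart c G e)
  {C : Scheme.{u}} (t : C ⟶ c.C) (μ : C ⟶ CohB1.ProjSpace n k)

/-- The sections with matrix `φ` define `μ`. -/
def Gv {T' C' : Scheme.{u}} (i : C' ⟶ C) (q : C' ⟶ T') (φ : Fin (n + 1) → Fin (e + 1) → Γ(T', ⊤)) : Prop :=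
  GivenBy (i ≫ μ) ((Scheme.Modules.pullback (i ≫ t)).obj ℓ.L) (lc q (fun j => pullTop (i ≫ t) (ℓ.ε j)) φ)

variable {ℓ t μ}

theorem Gv.comp {T' C' : Scheme.{u}} {i : C' ⟶ C} {q : C' ⟶ T'} {φ : Fin (n + 1) → Fin (e + 1) → Γ(T', ⊤)}
    (h : Gv ℓ t μ i q φ) {T'' C'' : Scheme.{u}} {a : C'' ⟶ C'} {q' : C'' ⟶ T''} {a' : T'' ⟶ T'} (hw : a ≫ q = q' ≫ a')
    {i' : C'' ⟶ C} (hi : a ≫ i = i') : Gv ℓ t μ i' q' (fun l j => a'.appTop (φ l j)) := by
  subst hi
  have hx : Pb a (fun j => pullTop (i ≫ t) (ℓ.ε j)) (fun j => pullTop ((a ≫ i) ≫ t) (ℓ.ε j)) := by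
    refine Pb.of_comp ?_
    rw [← Category.assoc]
    exact Pb.refl _ _
  have h1 := givenBy_lc_comp hw h hx
  rw [← Category.assoc] at h1
  exact h1

theorem Gv.congr {T' C' : Scheme.{u}} {i : C' ⟶ C} {q : C' ⟶ T'} {φ φ' : Fin (n + 1) → Fin (e + 1) → Γ(T', ⊤)}
    (h : Gv ℓ t μ i q φ) (hφ : ∀ l j, φ l j = φ' l j) : Gv ℓ t μ i q φ' := by
  obtain rfl : φ = φ' := funext fun l => funext fun j => hφ l j
  exact h

theorem smul_lc {T' C' : Scheme.{u}} (q : C' ⟶ T') {M : C'.Modules} (x : Fin (e + 1) → Γ(M, ⊤))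
    (φ : Fin (n + 1) → Fin (e + 1) → Γ(T', ⊤)) (w : Γ(T', ⊤)) (l : Fin (n + 1)) :
    q.appTop w • lc q x φ l = lc q x (fun l j => w * φ l j) l := by
  unfold lc
  rw [Finset.smul_sum]
  refine Finset.sum_congr rfl fun j _ => ?_
  rw [smul_smul, ← map_mul]

theorem Gv.smul {T' C' : Scheme.{u}} {i : C' ⟶ C} {q : C' ⟶ T'} {φ : Fin (n + 1) → Fin (e + 1) → Γ(T', ⊤)}
    (h : Gv ℓ t μ i q φ) {w : Γ(T', ⊤)} (hw : IsUnit w) : Gv ℓ t μ i q (fun l j => w * φ l j) := by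
  have h1 := givenBy_smul h (hw.map q.appTop.hom)
  have h2 : (fun l => q.appTop.hom w • lc q (fun j => pullTop (i ≫ t) (ℓ.ε j)) φ l) =
      lc q (fun j => pullTop (i ≫ t) (ℓ.ε j)) (fun l j => w * φ l j) := funext fun l => smul_lc q _ φ w l
  rw [h2] at h1
  exact h1

theorem lc_ext {T' C' : Scheme.{u}} {p : C' ⟶ c.C} {q : C' ⟶ T'} {g : T' ⟶ c.U.left} (H : IsPullback p q c.f g)
    {φ φ' : Fin (n + 1) → Fin (e + 1) → Γ(T', ⊤)}
    (h : ∀ l, lc q (fun j => pullTop p (ℓ.ε j)) φ l = lc q (fun j => pullTop p (ℓ.ε j)) φ' l) : φ = φ' := by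
  funext l
  exact (ℓ.basis p q g H _).unique (show lc q (fun j => pullTop p (ℓ.ε j)) φ l = _ from rfl) (h l)

theorem Gv.unique {T' C' : Scheme.{u}} {i : C' ⟶ C} {q : C' ⟶ T'} {g : T' ⟶ c.U.left} (H : IsPullback (i ≫ t) q c.f g)
    {φ φ' : Fin (n + 1) → Fin (e + 1) → Γ(T', ⊤)} (h : Gv ℓ t μ i q φ) (h' : Gv ℓ t μ i q φ') :
    ∃ w : Γ(T', ⊤), IsUnit w ∧ ∀ l j, φ' l j = w * φ l j := by
  obtain ⟨a, ha, ha'⟩ := exists_unit_of_givenBy (isInvertible_pullback _ ℓ.inv) h h'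
  have hb := bijective_appTop c.isPre H
  obtain ⟨w, rfl⟩ := hb.2 a
  have hw : IsUnit w := (MulEquiv.isUnit_map (MulEquiv.ofBijective q.appTop.hom hb)).mp ha
  refine ⟨w, hw, ?_⟩
  have h1 : φ' = fun l j => w * φ l j := lc_ext H fun l => by rw [ha', smul_lc]
  intro l j
  rw [h1]

/-- The image of a point where a combination of sections generates: one of the coefficients does not vanish. -/
theorem mem_basicOpen_of_mem_genLocus {X : Scheme.{u}} {M : X.Modules} (hM : PicF.IsInvertible M) {N : ℕ}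
    (a : Fin N → Γ(X, ⊤)) (x : Fin N → Γ(M, ⊤)) {y : X} (hy : y ∈ CohB1.genLocus M (homOf (∑ j, a j • x j))) :
    ∃ j, y ∈ X.basicOpen (a j) := by
  obtain ⟨U, ε, hyU, hε⟩ := (isInvertible_iff M).mp hM y
  choose b hb using fun j => hε.exists_eq (res M (le_top : U ≤ ⊤) (x j))
  have h1 : sec (homOf (∑ j, a j • x j)) U = (∑ j, ores (le_top : U ≤ ⊤) (a j) * b j) • ε := by
    rw [sec_homOf, Finset.sum_smul]
    refine (map_sum (M.presheaf.map (homOfLE (le_top : U ≤ ⊤)).op).hom _ _).trans ?_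
    refine Finset.sum_congr rfl fun j _ => ?_
    change res M (le_top : U ≤ ⊤) (a j • x j) = _
    rw [res_smul, hb, smul_smul]
  have h2 := genLocus_inf_eq _ hε h1
  have h3 : y ∈ X.basicOpen (∑ j, ores (le_top : U ≤ ⊤) (a j) * b j) := by
    rw [← h2]
    exact ⟨hy, hyU⟩
  rw [Scheme.mem_basicOpen _ _ _ hyU, map_sum] at h3
  obtain ⟨j, -, hj⟩ := IsLocalRing.exists_of_isUnit_sum h3
  rw [map_mul] at hj
  refine ⟨j, ?_⟩
  rw [Scheme.mem_basicOpen _ _ _ (Set.mem_univ y)]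
  have h4 := isUnit_of_mul_isUnit_left hj
  have h5 : X.presheaf.germ U y hyU (ores (le_top : U ≤ ⊤) (a j)) = X.presheaf.germ ⊤ y (Set.mem_univ y) (a j) :=
    TopCat.Presheaf.germ_res_apply _ _ _ _ _
  rw [h5] at h4
  exact h4

theorem Gv.uni {T' C' : Scheme.{u}} {i : C' ⟶ C} {q : C' ⟶ T'} {g : T' ⟶ c.U.left} (H : IsPullback (i ≫ t) q c.f g)
    {φ : Fin (n + 1) → Fin (e + 1) → Γ(T', ⊤)} (h : Gv ℓ t μ i q φ) (s : T') : ∃ l j, s ∈ T'.basicOpen (φ l j) := by
  obtain ⟨y, rfl⟩ := surj c.isPre H s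
  have h1 : y ∈ ⨆ l, CohB1.genLocus _ (homOf (lc q (fun j => pullTop (i ≫ t) (ℓ.ε j)) φ l)) := by
    rw [GivenBy.iSup_genLocus h]
    trivial
  obtain ⟨l, hl⟩ := Opens.mem_iSup.mp h1
  obtain ⟨j, hj⟩ := mem_basicOpen_of_mem_genLocus (isInvertible_pullback _ ℓ.inv) _ _ hl
  refine ⟨l, j, ?_⟩
  have h2 : q ⁻¹ᵁ T'.basicOpen (φ l j) = C'.basicOpen (q.appTop (φ l j)) := Scheme.preimage_basicOpen q (φ l j)
  have h3 : y ∈ q ⁻¹ᵁ T'.basicOpen (φ l j) := by rw [h2]; exact hj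
  exact h3

theorem exists_preimage_of_isPullback {A B D E : Scheme.{u}} {p : A ⟶ B} {q : A ⟶ D} {f : B ⟶ E} {g : D ⟶ E}
    (H : IsPullback p q f g) (y : B) (z : D) (h : f y = g z) : ∃ w : A, p w = y := by
  obtain ⟨w, hw, -⟩ := Scheme.Pullback.exists_preimage_pullback (f := f) (g := g) y z h
  refine ⟨H.isoPullback.inv w, ?_⟩
  rw [← Scheme.Hom.comp_apply, H.isoPullback_inv_fst, hw]

theorem pb_sec {T' C' : Scheme.{u}} {i : C' ⟶ C} {q : C' ⟶ T'} (φ : Fin (n + 1) → Fin (e + 1) → Γ(T', ⊤))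
    {T'' C'' : Scheme.{u}} {a : C'' ⟶ C'} {q' : C'' ⟶ T''} {a' : T'' ⟶ T'} (hw : a ≫ q = q' ≫ a') :
    Pb a (lc q (fun j => pullTop (i ≫ t) (ℓ.ε j)) φ)
      (lc q' (fun j => pullTop ((a ≫ i) ≫ t) (ℓ.ε j)) (fun l j => a'.appTop (φ l j))) := by
  refine pb_lc hw ?_ φ
  refine Pb.of_comp ?_
  rw [← Category.assoc]
  exact Pb.refl _ _

/-- The condition is local on the base. -/
theorem Gv.loc {T' C' : Scheme.{u}} {i : C' ⟶ C} {q : C' ⟶ T'} {φ : Fin (n + 1) → Fin (e + 1) → Γ(T', ⊤)}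
    (h : ∀ s : T', ∃ U : T'.Opens, s ∈ U ∧ ∃ (Z : Scheme.{u}) (a : Z ⟶ C') (q' : Z ⟶ U.toScheme),
      IsPullback a q' q U.ι ∧ Gv ℓ t μ (a ≫ i) q' (fun l j => U.ι.appTop (φ l j))) : Gv ℓ t μ i q φ := by
  have hM : PicF.IsInvertible ((Scheme.Modules.pullback (i ≫ t)).obj ℓ.L) := isInvertible_pullback _ ℓ.inv
  have hcov : ⨆ l, CohB1.genLocus _ (homOf (lc q (fun j => pullTop (i ≫ t) (ℓ.ε j)) φ l)) = ⊤ := by
    rw [eq_top_iff]
    intro y _
    obtain ⟨U, hU, Z, a, q', sq, hZ⟩ := h (q y)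
    obtain ⟨z, rfl⟩ := exists_preimage_of_isPullback sq y ⟨q y, hU⟩ rfl
    have h1 := iSup_genLocus_of_pb hM (pb_sec (ℓ := ℓ) (t := t) (i := i) φ sq.w)
    rw [GivenBy.iSup_genLocus hZ] at h1
    have h2 : z ∈ (⊤ : Z.Opens) := trivial
    rw [h1] at h2
    exact h2
  obtain ⟨r, hr, hr'⟩ := exists_givenBy ((i ≫ μ) ≫ CohB1.ProjSpace.toSpec n k) _ hcov
  have hri : r = i ≫ μ := by
    refine K864.SchGlue.hom_ext_of_open _ _ fun y => ?_
    obtain ⟨U, hU, Z, a, q', sq, hZ⟩ := h (q y)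
    obtain ⟨z, hz⟩ := exists_preimage_of_isPullback sq y ⟨q y, hU⟩ rfl
    have ho : IsOpenImmersion a := MorphismProperty.of_isPullback sq.flip inferInstance
    refine ⟨Z, a, ho, ⟨z, hz⟩, ?_⟩
    have h1 := givenBy_of_pb hr' (pb_sec (ℓ := ℓ) (t := t) (i := i) φ sq.w)
    rw [← Category.assoc]
    refine h1.unique hZ ?_
    rw [Category.assoc, hr, Category.assoc, Category.assoc, Category.assoc]
  rw [hri] at hr'
  exact hr'

/-- If the class of matrices is not empty at a point, then it is not empty near this point. -/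
theorem Gv.isOpen {T : Scheme.{u}} {f : C ⟶ T} {b : T ⟶ c.U.left} (hP : IsPullback t f c.f b)
    {T' C' : Scheme.{u}} {g : T' ⟶ T} {i : C' ⟶ C} {q : C' ⟶ T'} (H : IsPullback i q f g)
    {φ : Fin (n + 1) → Fin (e + 1) → Γ(T', ⊤)} (h : Gv ℓ t μ i q φ) (s : T') :
    ∃ V : T.Opens, g s ∈ V ∧ ∀ {Z : Scheme.{u}} {a : Z ⟶ C} {q' : Z ⟶ V.toScheme}, IsPullback a q' f V.ι →
      ∃ ψ : Fin (n + 1) → Fin (e + 1) → Γ(V.toScheme, ⊤), Gv ℓ t μ a q' ψ := by
  have := flat c.isPre hP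
  have := proper c.isPre hP
  have := lfp c.isPre hP
  obtain ⟨Ω, _, _, x, hx⟩ := K901.GeomLoc.exists_geomPt s
  have sqX : IsPullback (pullback.fst q x) (pullback.snd q x) q x := IsPullback.of_hasPullback q x
  have sqC : IsPullback (pullback.fst q x ≫ i) (pullback.snd q x) f (x ≫ g) := sqX.paste_horiz H
  obtain ⟨y, hy⟩ := exists_pre c.isPre hP (x ≫ g) sqC
  have h1 : Gv ℓ t μ (pullback.fst q x ≫ i) (pullback.snd q x) _ := h.comp sqX.w rfl
  obtain ⟨τ, -⟩ := id h1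
  let i₀ := pullback.fst q x ≫ i
  have e : Nonempty ((Scheme.Modules.pullback i₀).obj ((Scheme.Modules.pullback t).obj ℓ.L) ≅
      (Scheme.Modules.pullback i₀).obj ((Scheme.Modules.pullback μ).obj (O1 n k))) :=
    ⟨(Scheme.Modules.pullbackComp i₀ t).app ℓ.L ≪≫ τ.symm ≪≫ ((Scheme.Modules.pullbackComp i₀ μ).app (O1 n k)).symm⟩
  obtain ⟨V, hV, hV'⟩ := NearIso.exists_iso_of_isPrestablePtd f (isInvertible_pullback t ℓ.inv)
    (isInvertible_pullback μ (isInvertible_O1 n k)) (x ≫ g) sqC hy e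
  refine ⟨V, ?_, fun {Z a q'} sq => ?_⟩
  · have h2 : (x ≫ g) (IsLocalRing.closedPoint Ω) = g s := by
      rw [Scheme.Hom.comp_apply]
      exact congrArg g hx
    rw [← h2]
    exact hV
  · obtain ⟨ε⟩ := hV' a fun z => by
      rw [← Scheme.Hom.comp_apply, sq.w, Scheme.Hom.comp_apply]
      exact (q' z).2
    have h3 := (GivenBy.refl (a ≫ μ)).of_iso ((Scheme.Modules.pullbackComp a μ).symm.app (O1 n k) ≪≫ ε.symm ≪≫
      (Scheme.Modules.pullbackComp a t).app ℓ.L)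
    have sq' : IsPullback (a ≫ t) q' c.f (V.ι ≫ b) := sq.paste_horiz hP
    choose ψ hψ hψ' using fun l => ℓ.basis (a ≫ t) q' (V.ι ≫ b) sq'
      (((Scheme.Modules.pullbackComp a μ).symm.app (O1 n k) ≪≫ ε.symm ≪≫
        (Scheme.Modules.pullbackComp a t).app ℓ.L).hom.app ⊤ (tsec (a ≫ μ) l))
    refine ⟨ψ, ?_⟩
    exact (congrArg (GivenBy (a ≫ μ) ((Scheme.Modules.pullback (a ≫ t)).obj ℓ.L)) (funext fun l => hψ l)).mp h3

end Gv

/-! ### the class of rows -/

section Rows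

/-- The indices of the matrices. -/
noncomputable def idx (n e : ℕ) : Fin (n + 1) × Fin (e + 1) ≃ Fin (n * e + n + e + 1) :=
  finProdFinEquiv.trans (finCongr (by ring))

variable {k : Type u} [Field k] {r m n d e : ℕ} {G : LefPen.Form n k d} {c : CrvChart k (r + m)} (ℓ : LinChart c G e)
  {T C : Scheme.{u}} {f : C ⟶ T} {t : C ⟶ c.C} {b : T ⟶ c.U.left} (hP : IsPullback t f c.f b)
  (μ : C ⟶ CohB1.ProjSpace n k)

theorem pull_eq {T T' : Scheme.{u}} {h h' : T' ⟶ T} (e : h = h') (a : Γ(T, ⊤)) : h.appTop a = h'.appTop a := by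
  subst e; rfl

/-- The class of the matrices defining `μ`. -/
noncomputable def rows : RowClass T (n * e + n + e) where
  mem {T'} g φ := Gv ℓ t μ (pullback.fst f g) (pullback.snd f g) (fun l j => φ (idx n e (l, j)))
  uni {T' g φ} h := by
    rw [Uni, eq_top_iff]
    intro s _
    obtain ⟨l, j, hlj⟩ := Gv.uni ((IsPullback.of_hasPullback f g).paste_horiz hP) h s
    exact Opens.mem_iSup.mpr ⟨_, hlj⟩
  pull {T' T'' g φ} h hφ := hφ.comp (SecRep.isPullback_pm f h rfl).w (pullback.lift_fst _ _ _)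
  mul {T' g φ w} h hw := h.smul hw
  unique {T' g φ φ'} h h' := by
    obtain ⟨w, hw, hw'⟩ := Gv.unique ((IsPullback.of_hasPullback f g).paste_horiz hP) h h'
    refine ⟨w, hw, fun i => ?_⟩
    obtain ⟨⟨l, j⟩, rfl⟩ := (idx n e).surjective i
    exact hw' l j
  loc {T' g φ} h := Gv.loc fun s => by
    obtain ⟨U, hU, hU'⟩ := h s
    refine ⟨U, hU, pullback f (U.ι ≫ g), SecRep.pm f U.ι rfl, pullback.snd f (U.ι ≫ g),
      SecRep.isPullback_pm f U.ι rfl, ?_⟩
    rw [show SecRep.pm f U.ι rfl ≫ pullback.fst f g = pullback.fst f (U.ι ≫ g) from pullback.lift_fst _ _ _]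
    exact hU'
  isOpen {T' g φ} h s := by
    obtain ⟨V, hV, hV'⟩ := h.isOpen hP (IsPullback.of_hasPullback f g) s
    obtain ⟨ψ, hψ⟩ := hV' (IsPullback.of_hasPullback f V.ι)
    refine ⟨V, hV, fun i => ψ ((idx n e).symm i).1 ((idx n e).symm i).2, hψ.congr fun l j => ?_⟩
    change _ = ψ ((idx n e).symm (idx n e (l, j))).1 ((idx n e).symm (idx n e (l, j))).2
    rw [Equiv.symm_apply_apply]

include hP in
/-- The matrices defining `μ` are represented by a scheme smooth of relative dimension `1`. -/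
theorem exists_rows : ∃ (W : Scheme.{u}) (π : W ⟶ T) (Φ : Fin (n + 1) → Fin (e + 1) → Γ(W, ⊤)),
    SmoothOfRelativeDimension 1 π ∧ (IsLocallyNoetherian T → QuasiCompact π) ∧
    (∀ {C' : Scheme.{u}} {i : C' ⟶ C} {q : C' ⟶ W}, i ≫ f = q ≫ π → Gv ℓ t μ i q Φ) ∧
    ∀ {T' C' : Scheme.{u}} {g : T' ⟶ T} {i : C' ⟶ C} {q : C' ⟶ T'} (_ : IsPullback i q f g)
      {φ : Fin (n + 1) → Fin (e + 1) → Γ(T', ⊤)}, Gv ℓ t μ i q φ →
      ∃! h : T' ⟶ W, h ≫ π = g ∧ ∀ l j, h.appTop (Φ l j) = φ l j := by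
  obtain ⟨W, π, Φ, h1, h2, ⟨π', h3, h4⟩, h5⟩ := (rows ℓ hP μ).exists_rep
  refine ⟨W, π, fun l j => Φ (idx n e (l, j)), h2, fun hT => ?_, ?_, ?_⟩
  · rw [← h3]
    infer_instance
  · intro C' i q hw
    have h6 : Gv ℓ t μ (pullback.fst f π) (pullback.snd f π) (fun l j => Φ (idx n e (l, j))) := h1
    refine (h6.comp (a := pullback.lift i q hw) (q' := q) (a' := 𝟙 W) ?_ (pullback.lift_fst _ _ _)).congr
      fun l j => by simp
    rw [pullback.lift_snd, Category.comp_id]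
  · intro T' C' g i q H φ hφ
    have h6 : (rows ℓ hP μ).mem g (fun i => φ ((idx n e).symm i).1 ((idx n e).symm i).2) := by
      change Gv ℓ t μ (pullback.fst f g) (pullback.snd f g) _
      refine (hφ.comp (a := H.isoPullback.inv) (a' := 𝟙 T') (q' := pullback.snd f g)
        (by rw [H.isoPullback_inv_snd, Category.comp_id]) H.isoPullback_inv_fst).congr ?_
      intro l j
      simp
    obtain ⟨h, ⟨hh1, hh2⟩, hu⟩ := h5 g _ h6
    refine ⟨h, ⟨hh1, fun l j => ?_⟩, ?_⟩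
    · rw [hh2, Equiv.symm_apply_apply]
    · rintro h' ⟨h7, h8⟩
      refine hu h' ⟨h7, fun i => ?_⟩
      obtain ⟨⟨l, j⟩, rfl⟩ := (idx n e).surjective i
      rw [Equiv.symm_apply_apply]
      exact h8 l j

end Rows

end K275.RowTors
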